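import Mathlib
import Cfsg.Agent.S0047
set_option linter.all false

/-!
# Itô's theorem

If `G = A B` with `A`, `B` abelian (no finiteness), then `commutator G ≤ ⁅A, B⁆` and any two
elements of `commutator G` commute.
-/

set_option autoImplicit false

namespace Cfsg.Agent.SolvableStructure.Ito

open Subgroup
open scoped commutatorElement

variable {G : Type*} [Group G]

/-- If `G = A B` with abelian `A`, `B`, the commutators `⁅a, b⁆` commute with each other. -/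
theorem commutators_comm (A B : Subgroup G) [IsMulCommutative A] [IsMulCommutative B]
    (hAB : ∀ g : G, ∃ a ∈ A, ∃ b ∈ B, g = a * b)
    {a b a₁ b₁ : G} (ha : a ∈ A) (hb : b ∈ B) (ha₁ : a₁ ∈ A) (hb₁ : b₁ ∈ B) :
    ⁅a, b⁆ * ⁅a₁, b₁⁆ = ⁅a₁, b₁⁆ * ⁅a, b⁆ := by
  have hA : ∀ x ∈ A, ∀ y ∈ A, x * y = y * x := fun x hx y hy => setLike_mul_comm hx hy
  have hB : ∀ x ∈ B, ∀ y ∈ B, x * y = y * x := fun x hx y hy => setLike_mul_comm hx hy
  have h := Cfsg.Agent.S0047.conj_commutator_eq A B hA hB hAB ha (A.inv_mem ha₁) hb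
    (B.inv_mem hb₁)
  rw [commutatorElement_def, commutatorElement_def]
  set c := a * b * a⁻¹ * b⁻¹ with hc
  have h' : c * (b₁⁻¹ * a₁⁻¹)⁻¹ * (a₁⁻¹ * b₁⁻¹) = (b₁⁻¹ * a₁⁻¹)⁻¹ * (a₁⁻¹ * b₁⁻¹) * c := by
    calc c * (b₁⁻¹ * a₁⁻¹)⁻¹ * (a₁⁻¹ * b₁⁻¹)
        = (b₁⁻¹ * a₁⁻¹)⁻¹ * ((b₁⁻¹ * a₁⁻¹) * c * (b₁⁻¹ * a₁⁻¹)⁻¹) * (a₁⁻¹ * b₁⁻¹) := by group
      _ = (b₁⁻¹ * a₁⁻¹)⁻¹ * ((a₁⁻¹ * b₁⁻¹) * c * (a₁⁻¹ * b₁⁻¹)⁻¹) * (a₁⁻¹ * b₁⁻¹) := by rw [h]
      _ = _ := by group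
  have h3 : (b₁⁻¹ * a₁⁻¹)⁻¹ * (a₁⁻¹ * b₁⁻¹) = a₁ * b₁ * a₁⁻¹ * b₁⁻¹ := by group
  rw [mul_assoc, h3] at h'
  exact h'

/-- If `G = A B` with `A` a subgroup and `B` a subgroup, both abelian, then `⁅A, B⁆` is normal. -/
theorem commutator_normal (A B : Subgroup G) (hAB : ∀ g : G, ∃ a ∈ A, ∃ b ∈ B, g = a * b) :
    (⁅A, B⁆ : Subgroup G).Normal := by
  set N : Subgroup G := ⁅A, B⁆ with hN
  have hconjA : ∀ a ∈ A, ∀ n ∈ N, a * n * a⁻¹ ∈ N := by
    intro a ha n hn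
    rw [hN, Subgroup.commutator_def] at hn
    induction hn using Subgroup.closure_induction with
    | mem x hx =>
      obtain ⟨a', ha', b', hb', rfl⟩ := hx
      have : a * ⁅a', b'⁆ * a⁻¹ = ⁅a * a', b'⁆ * ⁅a, b'⁆⁻¹ := by
        simp only [commutatorElement_def]; group
      rw [this]
      exact N.mul_mem (Subgroup.commutator_mem_commutator (A.mul_mem ha ha') hb')
        (N.inv_mem (Subgroup.commutator_mem_commutator ha hb'))
    | one => simp [N.one_mem]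
    | mul x y _ _ hx hy =>
      have : a * (x * y) * a⁻¹ = (a * x * a⁻¹) * (a * y * a⁻¹) := by group
      rw [this]; exact N.mul_mem hx hy
    | inv x _ hx =>
      have : a * x⁻¹ * a⁻¹ = (a * x * a⁻¹)⁻¹ := by group
      rw [this]; exact N.inv_mem hx
  have hconjB : ∀ b ∈ B, ∀ n ∈ N, b * n * b⁻¹ ∈ N := by
    intro b hb n hn
    rw [hN, Subgroup.commutator_def] at hn
    induction hn using Subgroup.closure_induction with
    | mem x hx =>
      obtain ⟨a', ha', b', hb', rfl⟩ := hx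
      have : b * ⁅a', b'⁆ * b⁻¹ = ⁅a', b⁆⁻¹ * ⁅a', b * b'⁆ := by
        simp only [commutatorElement_def]; group
      rw [this]
      exact N.mul_mem (N.inv_mem (Subgroup.commutator_mem_commutator ha' hb))
        (Subgroup.commutator_mem_commutator ha' (B.mul_mem hb hb'))
    | one => simp [N.one_mem]
    | mul x y _ _ hx hy =>
      have : b * (x * y) * b⁻¹ = (b * x * b⁻¹) * (b * y * b⁻¹) := by group
      rw [this]; exact N.mul_mem hx hy
    | inv x _ hx =>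
      have : b * x⁻¹ * b⁻¹ = (b * x * b⁻¹)⁻¹ := by group
      rw [this]; exact N.inv_mem hx
  refine ⟨fun n hn g => ?_⟩
  obtain ⟨a, ha, b, hb, rfl⟩ := hAB g
  have : a * b * n * (a * b)⁻¹ = a * (b * n * b⁻¹) * a⁻¹ := by group
  rw [this]
  exact hconjA a ha _ (hconjB b hb n hn)

/-- If `G = A B` with abelian `A`, `B`, then `G' ≤ ⁅A, B⁆`. -/
theorem commutator_le (A B : Subgroup G) [IsMulCommutative A] [IsMulCommutative B]
    (hAB : ∀ g : G, ∃ a ∈ A, ∃ b ∈ B, g = a * b) : commutator G ≤ ⁅A, B⁆ := by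
  haveI := commutator_normal A B hAB
  have hc : ∀ a ∈ A, ∀ b ∈ B, (QuotientGroup.mk' ⁅A, B⁆ a) * (QuotientGroup.mk' ⁅A, B⁆ b) =
      (QuotientGroup.mk' ⁅A, B⁆ b) * (QuotientGroup.mk' ⁅A, B⁆ a) := by
    intro a ha b hb
    rw [← commutatorElement_eq_one_iff_mul_comm, ← map_commutatorElement,
      QuotientGroup.mk'_apply, QuotientGroup.eq_one_iff]
    exact commutator_mem_commutator ha hb
  rw [commutator_def, Subgroup.commutator_le]
  intro g _ h _
  obtain ⟨a, ha, b, hb, rfl⟩ := hAB g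
  obtain ⟨a₁, ha₁, b₁, hb₁, rfl⟩ := hAB h
  rw [← QuotientGroup.eq_one_iff, ← QuotientGroup.mk'_apply, map_commutatorElement,
    commutatorElement_eq_one_iff_mul_comm]
  simp only [map_mul]
  have h1 := hc a ha b₁ hb₁
  have h2 := hc a₁ ha₁ b hb
  have h3 : (QuotientGroup.mk' ⁅A, B⁆ a) * (QuotientGroup.mk' ⁅A, B⁆ a₁) =
      (QuotientGroup.mk' ⁅A, B⁆ a₁) * (QuotientGroup.mk' ⁅A, B⁆ a) := by
    rw [← map_mul, ← map_mul, setLike_mul_comm ha ha₁]
  have h4 : (QuotientGroup.mk' ⁅A, B⁆ b) * (QuotientGroup.mk' ⁅A, B⁆ b₁) =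
      (QuotientGroup.mk' ⁅A, B⁆ b₁) * (QuotientGroup.mk' ⁅A, B⁆ b) := by
    rw [← map_mul, ← map_mul, setLike_mul_comm hb hb₁]
  have e1 : Commute (QuotientGroup.mk' ⁅A, B⁆ a) (QuotientGroup.mk' ⁅A, B⁆ b₁) := h1
  have e2 : Commute (QuotientGroup.mk' ⁅A, B⁆ a₁) (QuotientGroup.mk' ⁅A, B⁆ b) := h2
  have e3 : Commute (QuotientGroup.mk' ⁅A, B⁆ a) (QuotientGroup.mk' ⁅A, B⁆ a₁) := h3
  have e4 : Commute (QuotientGroup.mk' ⁅A, B⁆ b) (QuotientGroup.mk' ⁅A, B⁆ b₁) := h4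
  exact ((e3.mul_right e1).mul_left ((e2.symm).mul_right e4)).eq

/-- **Itô's theorem**: if `G = A B` with abelian `A`, `B`, any two elements of `G'` commute. -/
theorem commute_of_mem_commutator (A B : Subgroup G) [IsMulCommutative A] [IsMulCommutative B]
    (hAB : ∀ g : G, ∃ a ∈ A, ∃ b ∈ B, g = a * b) {x y : G} (hx : x ∈ commutator G)
    (hy : y ∈ commutator G) : x * y = y * x := by
  have key : ∀ x ∈ (⁅A, B⁆ : Subgroup G), ∀ y ∈ (⁅A, B⁆ : Subgroup G), x * y = y * x := by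
    have hle : (⁅A, B⁆ : Subgroup G) ≤ centralizer ((⁅A, B⁆ : Subgroup G) : Set G) := by
      rw [Subgroup.commutator_le]
      intro a ha b hb
      rw [mem_centralizer_iff]
      intro y hy
      have : (⁅A, B⁆ : Subgroup G) ≤ centralizer {⁅a, b⁆} := by
        rw [Subgroup.commutator_le]
        intro a₁ ha₁ b₁ hb₁
        rw [mem_centralizer_iff]
        intro z hz
        rw [Set.mem_singleton_iff] at hz
        subst hz
        exact commutators_comm A B hAB ha hb ha₁ hb₁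
      exact (mem_centralizer_iff.1 (this hy) _ rfl).symm
    intro x hx y hy
    exact mem_centralizer_iff.1 (hle hy) x hx
  exact key x (commutator_le A B hAB hx) y (commutator_le A B hAB hy)

/-- **Itô's theorem**. -/
theorem derivedSeries_two_eq_bot (A B : Subgroup G) [IsMulCommutative A] [IsMulCommutative B]
    (hAB : ∀ g : G, ∃ a ∈ A, ∃ b ∈ B, g = a * b) : derivedSeries G 2 = ⊥ := by
  rw [derivedSeries_succ, derivedSeries_one, commutator_eq_bot_iff_le_centralizer]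
  intro x hx
  rw [mem_centralizer_iff]
  intro y hy
  exact commute_of_mem_commutator A B hAB hy hx

end Cfsg.Agent.SolvableStructure.Ito
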