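/-
Carter subgroups and system normalizers of finite solvable groups: the part of S0569 that does not use
Hall's theorems.  (helper334)
-/
import Mathlib
import Cfsg.Prelude.Def_SolvableStructure
set_option linter.all false

set_option autoImplicit false

namespace Cfsg.Agent.SolvableStructure.CarterSystem

open Subgroup

/-- A Hall subgroup (order coprime to index) of a finite nilpotent group is normal. -/
theorem normal_of_coprime_index_of_nilpotent {G : Type*} [Group G] [Finite G]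
    (hG : Group.IsNilpotent G) (Q : Subgroup G)
    (h : (Nat.card Q).Coprime Q.index) : Q.Normal := by
  rw [← normalizer_eq_top_iff]
  have hnc : NormalizerCondition G := Group.normalizerCondition_of_isNilpotent
  refine (normalizerCondition_iff_only_full_group_self_normalizing.mp hnc) _ ?_
  refine le_antisymm ?_ le_normalizer
  rw [le_normalizer_iff]
  intro g hg x hx
  set M : Subgroup G := normalizer (Q : Set G) with hM
  have hxM : x ∈ M := le_normalizer hx
  have hgx : g * x * g⁻¹ ∈ M := (mem_normalizer_iff.mp hg x).mp hxM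
  have hpow : (g * x * g⁻¹) ^ (Q.relIndex M) ∈ Q := by
    have := pow_index_mem (Q.subgroupOf M) ⟨g * x * g⁻¹, hgx⟩
    rw [mem_subgroupOf] at this
    simpa using! this
  have hord : orderOf (g * x * g⁻¹) = orderOf x := by
    have := orderOf_injective (MulAut.conj g).toMonoidHom (MulAut.conj g).injective x
    simpa using! this
  have hcop : (Q.relIndex M).Coprime (orderOf (g * x * g⁻¹)) := by
    rw [hord]
    have h1 : Q.relIndex M ∣ Q.index := relIndex_dvd_index_of_le le_normalizer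
    have h2 : orderOf x ∣ Nat.card Q := by
      have := orderOf_dvd_natCard (⟨x, hx⟩ : Q)
      simpa [Subgroup.orderOf_mk] using this
    exact (Nat.Coprime.coprime_dvd_left h1 (Nat.Coprime.coprime_dvd_right h2 h.symm))
  obtain ⟨m, hm⟩ := exists_pow_eq_self_of_coprime hcop
  rw [← hm]
  exact pow_mem hpow m

/-- For `M` normal, `|H M : H| = |M : H ∩ M|`. -/
theorem relIndex_sup_of_normal {G : Type*} [Group G] [Finite G] (H M : Subgroup G) [M.Normal] :
    H.relIndex (H ⊔ M) = H.relIndex M := by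
  have h1 := relIndex_mul_relIndex (H ⊓ M) H (H ⊔ M) inf_le_left le_sup_left
  have h2 := relIndex_mul_relIndex (H ⊓ M) M (H ⊔ M) inf_le_right le_sup_right
  rw [inf_relIndex_left] at h1
  rw [inf_relIndex_right, relIndex_sup_right, ← h1, mul_comm] at h2
  have h3 : M.relIndex H ≠ 0 := index_ne_zero_of_finite
  exact (Nat.eq_of_mul_eq_mul_left (Nat.pos_of_ne_zero h3) h2).symm

/-- For `Q ≤ C` and `L` normal, `|C L : Q L|` divides `|C : Q|`. -/
theorem relIndex_sup_sup_dvd {G : Type*} [Group G] [Finite G] {Q C : Subgroup G} (hQC : Q ≤ C)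
    (L : Subgroup G) [L.Normal] : (Q ⊔ L).relIndex (C ⊔ L) ∣ Q.relIndex C := by
  have h1 := relIndex_mul_relIndex Q (Q ⊔ L) (C ⊔ L) le_sup_left (sup_le_sup_right hQC L)
  have h2 := relIndex_mul_relIndex Q C (C ⊔ L) hQC le_sup_left
  have h3 := relIndex_inf_mul_relIndex Q C L
  rw [relIndex_sup_of_normal] at h1 h2
  rw [inf_eq_left.mpr hQC] at h3
  refine Dvd.intro_left (Q.relIndex (C ⊓ L)) ?_
  have h4 : C.relIndex L ≠ 0 := index_ne_zero_of_finite
  apply Nat.eq_of_mul_eq_mul_left (Nat.pos_of_ne_zero h4)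
  rw [mul_comm (C.relIndex L) (Q.relIndex C), h2, ← h1, ← h3]
  ring

/-- If `W / Y` is a self-normalizing subgroup of the finite `p`-group `X / Y` then `W = X`. -/
theorem eq_top_of_normalizer_eq_of_index {X : Type*} [Group X] [Finite X] {p : ℕ} [Fact p.Prime]
    (Y W : Subgroup X) [Y.Normal] (hYW : Y ≤ W) {k : ℕ} (hk : Y.index = p ^ k)
    (hW : normalizer (W : Set X) = W) : W = ⊤ := by
  have hp : IsPGroup p (X ⧸ Y) := IsPGroup.of_card (n := k) (by rw [← hk]; rfl)
  have hnil : Group.IsNilpotent (X ⧸ Y) := hp.isNilpotent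
  have hnc : NormalizerCondition (X ⧸ Y) := Group.normalizerCondition_of_isNilpotent
  have hsurj : Function.Surjective (QuotientGroup.mk' Y) := QuotientGroup.mk'_surjective Y
  have hWc : (W.map (QuotientGroup.mk' Y)).comap (QuotientGroup.mk' Y) = W :=
    comap_map_eq_self (by rw [QuotientGroup.ker_mk']; exact hYW)
  have h1 : W.map (QuotientGroup.mk' Y) = ⊤ := by
    refine (normalizerCondition_iff_only_full_group_self_normalizing.mp hnc) _ ?_
    apply comap_injective hsurj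
    rw [comap_normalizer_eq_of_surjective _ hsurj, hWc, hW]
  rw [← hWc, h1, comap_top]

/-- Relative form of `eq_top_of_normalizer_eq_of_index`. -/
theorem le_of_normalizer_inf_le {G : Type*} [Group G] [Finite G] {p : ℕ} [Fact p.Prime]
    {Y W X : Subgroup G} (hYW : Y ≤ W) (hWX : W ≤ X) (hXY : X ≤ normalizer (Y : Set G))
    {k : ℕ} (hk : Y.relIndex X = p ^ k) (hW : normalizer (W : Set G) ≤ W) : X ≤ W := by
  have : (Y.subgroupOf X).Normal := (normal_subgroupOf_iff_le_normalizer (hYW.trans hWX)).mpr hXY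
  have h1 : W.subgroupOf X = ⊤ := by
    refine eq_top_of_normalizer_eq_of_index (p := p) (Y.subgroupOf X) (W.subgroupOf X) ?_ hk ?_
    · exact comap_mono hYW
    · rw [← subgroupOf_normalizer_eq hWX, le_antisymm hW le_normalizer]
  exact subgroupOf_eq_top.mp h1

/-- The main step: going down one `p`-factor `M / L`. -/
theorem step {G : Type*} [Group G] [Finite G] {p : ℕ} [Fact p.Prime]
    (C P D L M : Subgroup G) [L.Normal] [M.Normal] (hLM : L ≤ M)
    {k : ℕ} (hML : L.relIndex M = p ^ k)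
    {l : ℕ} (hPC : (P ⊓ C).relIndex C = p ^ l) (hP : (Nat.card P).Coprime p)
    (hCn : C ≤ normalizer ((P ⊓ C : Subgroup G) : Set G))
    (hself : normalizer ((C ⊔ L : Subgroup G) : Set G) ≤ C ⊔ L)
    (hDP : D ≤ normalizer (P : Set G)) (hD : D ≤ C ⊔ M) : D ≤ C ⊔ L := by
  have hp : p.Prime := Fact.out
  set Q : Subgroup G := P ⊓ C with hQ
  -- the index of `Y = Q ⊔ L` in `C ⊔ M` is a power of `p`
  have hCL : C ⊔ L ≤ C ⊔ M := sup_le_sup_left hLM C
  have hYCL : Q ⊔ L ≤ C ⊔ L := sup_le_sup_right inf_le_right L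
  have hYpow : ∃ a, (Q ⊔ L).relIndex (C ⊔ M) = p ^ a := by
    have h1 := relIndex_mul_relIndex (Q ⊔ L) (C ⊔ L) (C ⊔ M) hYCL hCL
    have h2 : (Q ⊔ L).relIndex (C ⊔ L) ∣ p ^ l := hPC ▸ relIndex_sup_sup_dvd inf_le_right L
    have h3 : (C ⊔ L).relIndex (C ⊔ M) ∣ p ^ k := by
      have h4 : C ⊔ M = (C ⊔ L) ⊔ M := by rw [sup_assoc, sup_eq_right.mpr hLM]
      rw [h4, relIndex_sup_of_normal, ← hML]
      exact relIndex_dvd_of_le_left _ le_sup_right
    have h5 : (Q ⊔ L).relIndex (C ⊔ M) ∣ p ^ (l + k) := by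
      rw [← h1, pow_add]; exact mul_dvd_mul h2 h3
    obtain ⟨a, -, ha⟩ := (Nat.dvd_prime_pow hp).mp h5
    exact ⟨a, ha⟩
  obtain ⟨a, ha⟩ := hYpow
  -- `Y = P L ∩ C M`
  have hYZ : Q ⊔ L ≤ (P ⊔ L) ⊓ (C ⊔ M) :=
    le_inf (sup_le_sup_right inf_le_left L) (hYCL.trans hCL)
  have hZY : (P ⊔ L) ⊓ (C ⊔ M) ≤ Q ⊔ L := by
    rw [← relIndex_eq_one]
    have h1 : (Q ⊔ L).relIndex ((P ⊔ L) ⊓ (C ⊔ M)) ∣ p ^ a := by
      rw [← ha, ← relIndex_mul_relIndex (Q ⊔ L) ((P ⊔ L) ⊓ (C ⊔ M)) (C ⊔ M) hYZ inf_le_right]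
      exact dvd_mul_right _ _
    have h2 : (Q ⊔ L).relIndex ((P ⊔ L) ⊓ (C ⊔ M)) ∣ Nat.card P := by
      have h3 : (Q ⊔ L).relIndex ((P ⊔ L) ⊓ (C ⊔ M)) ∣ L.relIndex ((P ⊔ L) ⊓ (C ⊔ M)) :=
        relIndex_dvd_of_le_left _ le_sup_right
      have h4 : L.relIndex ((P ⊔ L) ⊓ (C ⊔ M)) ∣ L.relIndex (P ⊔ L) := by
        rw [← relIndex_mul_relIndex L ((P ⊔ L) ⊓ (C ⊔ M)) (P ⊔ L)
          (le_inf le_sup_right (hLM.trans le_sup_right)) inf_le_left]
        exact dvd_mul_right _ _
      have h5 : L.relIndex (P ⊔ L) ∣ Nat.card P := by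
        rw [relIndex_sup_right]
        exact relIndex_dvd_card L P
      exact (h3.trans h4).trans h5
    exact Nat.eq_one_of_dvd_coprimes (Nat.Coprime.pow_right a hP) h2 h1
  have hEq : Q ⊔ L = (P ⊔ L) ⊓ (C ⊔ M) := le_antisymm hYZ hZY
  have hDY : D ≤ normalizer ((Q ⊔ L : Subgroup G) : Set G) := by
    rw [hEq]
    refine le_trans (le_inf ?_ ?_) inf_normalizer_le_normalizer_inf
    · exact hDP.trans normalizer_le_normalizer_sup_normal
    · exact hD.trans le_normalizer
  have hCLY : C ⊔ L ≤ normalizer ((Q ⊔ L : Subgroup G) : Set G) :=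
    sup_le (hCn.trans normalizer_le_normalizer_sup_normal) (le_sup_right.trans le_normalizer)
  -- the subgroup `X`
  set X : Subgroup G := (C ⊔ M) ⊓ normalizer ((Q ⊔ L : Subgroup G) : Set G) with hX
  have hXpow : ∃ b, (Q ⊔ L).relIndex X = p ^ b := by
    have h1 : (Q ⊔ L).relIndex X ∣ p ^ a := by
      rw [← ha, ← relIndex_mul_relIndex (Q ⊔ L) X (C ⊔ M)
        (le_inf (hYCL.trans hCL) le_normalizer) inf_le_left]
      exact dvd_mul_right _ _
    obtain ⟨b, -, hb⟩ := (Nat.dvd_prime_pow hp).mp h1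
    exact ⟨b, hb⟩
  obtain ⟨b, hb⟩ := hXpow
  have hXle : X ≤ C ⊔ L :=
    le_of_normalizer_inf_le (p := p) (Y := Q ⊔ L) hYCL (le_inf hCL hCLY) inf_le_right hb hself
  exact (le_inf hD hDY).trans hXle

end Cfsg.Agent.SolvableStructure.CarterSystem
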