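import Mathlib
set_option linter.all false

/-!
# Schmidt's theorem

A finite group all of whose proper subgroups are nilpotent is solvable
(`isSolvable_of_forall_proper_isNilpotent`); if it is nontrivial then it has a normal
`q`-complement for some prime `q` dividing its order
(`exists_normal_complement_of_forall_proper_isNilpotent`).
Also: a finite nilpotent group has a normal `q`-complement for each prime `q`
(`exists_normal_complement_of_isNilpotent`).
-/

set_option autoImplicit false
set_option linter.style.haveILetI false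

namespace Cfsg.Agent.SolvableStructure.Schmidt

open Subgroup

universe u

/-- Normalizers grow: relative version of the normalizer condition. -/
theorem lt_inf_normalizer {G : Type u} [Group G] {I X : Subgroup G}
    (hX : Group.IsNilpotent X) (h : I < X) : I < X ⊓ normalizer (I : Set G) := by
  have hlt : I.subgroupOf X < ⊤ := by
    rw [lt_top_iff_ne_top, ne_eq, Subgroup.subgroupOf_eq_top]
    exact not_le_of_gt h
  have h2 := Group.normalizerCondition_of_isNilpotent (G := X) _ hlt
  rw [← Subgroup.subgroupOf_normalizer_eq h.le] at h2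
  obtain ⟨x, hx, hxI⟩ := SetLike.exists_of_lt h2
  refine lt_of_le_of_ne (le_inf h.le le_normalizer) ?_
  intro heq
  apply hxI
  have h3 : (x : G) ∈ X ⊓ normalizer (I : Set G) := ⟨x.2, Subgroup.mem_subgroupOf.1 hx⟩
  rw [← heq] at h3
  exact Subgroup.mem_subgroupOf.2 h3

theorem exists_coatom_ge {G : Type u} [Group G] [Finite G] (H : Subgroup G) (h : H ≠ ⊤) :
    ∃ M : Subgroup G, IsCoatom M ∧ H ≤ M := by
  rcases IsCoatomic.eq_top_or_exists_le_coatom H with h1 | h1
  · exact absurd h1 h
  · exact h1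

/-- In a finite simple group with nilpotent proper subgroups, two distinct maximal subgroups meet
trivially. -/
theorem coatom_inf_eq_bot {G : Type u} [Group G] [Finite G] [IsSimpleGroup G]
    (h : ∀ H : Subgroup G, H ≠ ⊤ → Group.IsNilpotent H)
    (M₁ M₂ : Subgroup G) (h₁ : IsCoatom M₁) (h₂ : IsCoatom M₂) (hne : M₁ ≠ M₂) :
    M₁ ⊓ M₂ = ⊥ := by
  by_contra hI
  let S : Set (Subgroup G) :=
    {I | I ≠ ⊥ ∧ ∃ A B : Subgroup G, IsCoatom A ∧ IsCoatom B ∧ A ≠ B ∧ I = A ⊓ B}
  have hS : S.Nonempty := ⟨M₁ ⊓ M₂, hI, M₁, M₂, h₁, h₂, hne, rfl⟩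
  obtain ⟨I, hI⟩ := S.toFinite.exists_maximal hS
  obtain ⟨⟨hI0, A, B, hA, hB, hAB, hIAB⟩, hmax⟩ := hI
  have hIA : I < A := by
    refine lt_of_le_of_ne (hIAB ▸ inf_le_left) ?_
    intro h1
    have h2 : A ≤ B := by
      rw [← h1, hIAB]; exact inf_le_right
    rcases hA.le_iff.1 h2 with h3 | h3
    · exact hB.1 h3
    · exact hAB h3.symm
  have hIB : I < B := by
    refine lt_of_le_of_ne (hIAB ▸ inf_le_right) ?_
    intro h1
    have h2 : B ≤ A := by
      rw [← h1, hIAB]; exact inf_le_left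
    rcases hB.le_iff.1 h2 with h3 | h3
    · exact hA.1 h3
    · exact hAB h3
  have hN : normalizer (I : Set G) ≠ ⊤ := by
    intro h1
    have h2 : I.Normal := Subgroup.normalizer_eq_top_iff.1 h1
    rcases h2.eq_bot_or_eq_top with h3 | h3
    · exact hI0 h3
    · exact (ne_top_of_lt hIA) h3
  obtain ⟨M, hM, hNM⟩ := exists_coatom_ge _ hN
  have key : ∀ X : Subgroup G, IsCoatom X → I < X → M = X := by
    intro X hX hIX
    by_contra hMX
    have h1 := lt_inf_normalizer (h X hX.1) hIX
    have h2 : I < M ⊓ X := lt_of_lt_of_le h1 (by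
      rw [inf_comm]; exact inf_le_inf_right _ hNM)
    have h3 : M ⊓ X ∈ S := ⟨(ne_bot_of_gt h2), M, X, hM, hX, hMX, rfl⟩
    exact absurd (hmax h3 h2.le) (not_le_of_gt h2)
  exact hAB ((key A hA hIA).symm.trans (key B hB hIB))

/-- The counting step: in a finite simple group whose distinct maximal subgroups meet trivially and are
nontrivial, the map `(G ⧸ M) × (M \ 1) → G` by conjugation is injective. -/
theorem conj_injective {G : Type u} [Group G] [Finite G] [IsSimpleGroup G]
    (hinf : ∀ M₁ M₂ : Subgroup G, IsCoatom M₁ → IsCoatom M₂ → M₁ ≠ M₂ → M₁ ⊓ M₂ = ⊥)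
    (M : Subgroup G) (hM : IsCoatom M) (hM0 : M ≠ ⊥) :
    ∀ (a b : G ⧸ M) (m n : M), m ≠ 1 → (a.out : G) * m * (a.out : G)⁻¹ = b.out * n * (b.out : G)⁻¹ →
      a = b ∧ m = n := by
  intro a b m n hm heq
  have hN : normalizer (M : Set G) = M := by
    rcases hM.le_iff.1 (le_normalizer (H := M)) with h1 | h1
    · have h2 : M.Normal := Subgroup.normalizer_eq_top_iff.1 h1
      rcases h2.eq_bot_or_eq_top with h3 | h3
      · exact absurd h3 hM0
      · exact absurd h3 hM.1
    · exact h1
  set g : G := (b.out : G)⁻¹ * a.out with hg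
  have h1 : g * m * g⁻¹ = n := by
    rw [hg]
    calc (b.out : G)⁻¹ * a.out * m * ((b.out : G)⁻¹ * a.out)⁻¹
        = (b.out : G)⁻¹ * ((a.out : G) * m * (a.out : G)⁻¹) * b.out := by group
      _ = (b.out : G)⁻¹ * (b.out * n * (b.out : G)⁻¹) * b.out := by rw [heq]
      _ = n := by group
  -- conjugate of M by g
  let M' : Subgroup G := M.map (MulAut.conj g).toMonoidHom
  have hM' : IsCoatom M' := by
    have := (OrderIso.isCoatom_iff (MulEquiv.mapSubgroup (MulAut.conj g)) M).2 hM
    exact this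
  have hgM : M' = M := by
    by_contra hne
    have h2 := hinf M' M hM' hM hne
    have h3 : (n : G) ∈ M' ⊓ M := by
      refine ⟨⟨m, m.2, ?_⟩, n.2⟩
      simpa using h1
    rw [h2, Subgroup.mem_bot] at h3
    rw [h3] at h1
    apply hm
    have h4 : (m : G) = 1 := by
      calc (m : G) = g⁻¹ * (g * m * g⁻¹) * g := by group
        _ = 1 := by rw [h1]; group
    exact Subtype.ext h4
  have hgN : g ∈ normalizer (M : Set G) := by
    rw [Subgroup.mem_normalizer_iff]
    intro x
    constructor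
    · intro hx
      have : g * x * g⁻¹ ∈ M' := ⟨x, hx, by simp⟩
      rwa [hgM] at this
    · intro hx
      have hx' : g * x * g⁻¹ ∈ M' := by rw [hgM]; exact hx
      obtain ⟨y, hy, hyx⟩ := hx'
      have h5 : g * y * g⁻¹ = g * x * g⁻¹ := by simpa using hyx
      have h6 : y = x := by
        have := mul_right_cancel h5
        exact mul_left_cancel this
      rw [← h6]; exact hy
  rw [hN] at hgN
  have hab : a = b := by
    have h7 : (QuotientGroup.mk (b.out : G) : G ⧸ M) = QuotientGroup.mk (a.out : G) :=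
      QuotientGroup.eq.2 hgN
    rw [QuotientGroup.out_eq', QuotientGroup.out_eq'] at h7
    exact h7.symm
  refine ⟨hab, ?_⟩
  subst hab
  have h8 : g = 1 := by rw [hg]; group
  rw [h8] at h1
  apply Subtype.ext
  simpa using h1

/-- The conjugation map `(G ⧸ M) × (M \ 1) → G \ 1`. -/
noncomputable def conjMap {G : Type u} [Group G] (M : Subgroup G)
    (x : (G ⧸ M) × {m : M // m ≠ 1}) : {g : G // g ≠ 1} :=
  ⟨(x.1.out : G) * (x.2.1 : G) * (x.1.out : G)⁻¹, by
    intro h
    apply x.2.2
    apply Subtype.ext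
    calc ((x.2.1 : M) : G) = (x.1.out : G)⁻¹ * ((x.1.out : G) * (x.2.1 : G) * (x.1.out : G)⁻¹) * x.1.out := by
          group
      _ = 1 := by rw [h]; group⟩

theorem conjMap_injective {G : Type u} [Group G] [Finite G] [IsSimpleGroup G]
    (hinf : ∀ M₁ M₂ : Subgroup G, IsCoatom M₁ → IsCoatom M₂ → M₁ ≠ M₂ → M₁ ⊓ M₂ = ⊥)
    (M : Subgroup G) (hM : IsCoatom M) (hM0 : M ≠ ⊥) : Function.Injective (conjMap M) := by
  rintro ⟨a, m, hm⟩ ⟨b, n, hn⟩ h
  have h1 : (a.out : G) * m * (a.out : G)⁻¹ = b.out * n * (b.out : G)⁻¹ := congrArg Subtype.val h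
  obtain ⟨h2, h3⟩ := conj_injective hinf M hM hM0 a b m n hm h1
  subst h2
  subst h3
  rfl

theorem mem_range_conjMap {G : Type u} [Group G] (M : Subgroup G) (g : {g : G // g ≠ 1}) (z : G)
    (h : z⁻¹ * (g : G) * z ∈ M) : g ∈ Set.range (conjMap M) := by
  obtain ⟨k, hk⟩ := QuotientGroup.mk_out_eq_mul M z
  have hkz : (z : G) = ((z : G ⧸ M).out : G) * (k : G)⁻¹ := by rw [hk]; group
  have hmem : (k : G)⁻¹ * (z⁻¹ * (g : G) * z) * k ∈ M := M.mul_mem (M.mul_mem (M.inv_mem k.2) h) k.2
  refine ⟨⟨(z : G ⧸ M), ⟨⟨_, hmem⟩, ?_⟩⟩, ?_⟩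
  · intro h1
    have h2 : (k : G)⁻¹ * (z⁻¹ * (g : G) * z) * k = 1 := congrArg Subtype.val h1
    apply g.2
    calc (g : G) = (z * k) * ((k : G)⁻¹ * (z⁻¹ * (g : G) * z) * k) * (z * k)⁻¹ := by group
      _ = 1 := by rw [h2]; group
  · apply Subtype.ext
    show ((z : G ⧸ M).out : G) * ((k : G)⁻¹ * (z⁻¹ * (g : G) * z) * k) * ((z : G ⧸ M).out : G)⁻¹ = g
    rw [hk]
    group

theorem card_ne_one {G : Type u} [Group G] [Finite G] : Nat.card {g : G // g ≠ 1} = Nat.card G - 1 := by
  classical
  haveI := Fintype.ofFinite G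
  rw [Nat.card_eq_fintype_card, Nat.card_eq_fintype_card, Fintype.card_subtype_compl, Fintype.card_subtype_eq]

theorem card_dom {G : Type u} [Group G] [Finite G] (M : Subgroup G) :
    Nat.card ((G ⧸ M) × {m : M // m ≠ 1}) = Nat.card G - M.index := by
  rw [Nat.card_prod, card_ne_one, ← Subgroup.index_mul_card M, Nat.mul_sub, mul_one]
  rfl

theorem isSolvable_of_isSimpleGroup {G : Type u} [Group G] [Finite G] [IsSimpleGroup G]
    (h : ∀ H : Subgroup G, H ≠ ⊤ → Group.IsNilpotent H) : Group.IsSolvable G := by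
  by_contra hns
  have hcyc : ∀ g : G, zpowers g ≠ ⊤ := by
    intro g hg
    apply hns
    have h1 : Group.IsSolvable (zpowers g) := inferInstance
    rw [hg] at h1
    exact Group.isSolvable_of_surjective (f := (⊤ : Subgroup G).subtype) (fun x => ⟨⟨x, trivial⟩, rfl⟩)
  have hinf := coatom_inf_eq_bot h
  have hbot : ¬ IsCoatom (⊥ : Subgroup G) := by
    intro hb
    obtain ⟨g, hg⟩ := exists_ne (1 : G)
    have h1 : zpowers g ≠ ⊥ := by
      intro h2; exact hg (Subgroup.zpowers_eq_bot.1 h2)
    exact hcyc g (hb.2 _ (bot_lt_iff_ne_bot.2 h1))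
  have hne : ∀ M : Subgroup G, IsCoatom M → M ≠ ⊥ := by
    intro M hM h1; rw [h1] at hM; exact hbot hM
  have hhalf : ∀ M : Subgroup G, IsCoatom M → 2 * M.index ≤ Nat.card G ∧ 2 ≤ M.index := by
    intro M hM
    have h1 : 2 ≤ Nat.card M := by
      have : 1 < Nat.card M := (Subgroup.one_lt_card_iff_ne_bot M).2 (hne M hM)
      exact this
    have h2 := Subgroup.index_mul_card M
    constructor
    · rw [← h2, mul_comm]; exact Nat.mul_le_mul_left _ h1
    · have h3 : M.index ≠ 1 := fun h4 => hM.1 (Subgroup.index_eq_one.1 h4)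
      have h4 : M.index ≠ 0 := Subgroup.index_ne_zero_of_finite
      omega
  obtain ⟨M, hM, -⟩ := exists_coatom_ge (zpowers (1 : G)) (hcyc 1)
  have hinj := conjMap_injective hinf M hM (hne M hM)
  have hns : ¬ Function.Surjective (conjMap M) := by
    intro hs
    have h1 := Nat.card_eq_of_bijective _ ⟨hinj, hs⟩
    rw [card_dom, card_ne_one] at h1
    have h2 := hhalf M hM
    omega
  obtain ⟨g, hg⟩ : ∃ g, g ∉ Set.range (conjMap M) := by
    by_contra hcon
    push Not at hcon
    exact hns hcon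
  obtain ⟨M', hM', hgM'⟩ := exists_coatom_ge (zpowers (g : G)) (hcyc g)
  have hgM'' : (g : G) ∈ M' := hgM' (mem_zpowers _)
  have hinj' := conjMap_injective hinf M' hM' (hne M' hM')
  have hdisj : ∀ a b, conjMap M a ≠ conjMap M' b := by
    rintro ⟨a, m, hm⟩ ⟨b, n, hn⟩ heq
    have heq' : (a.out : G) * m * (a.out : G)⁻¹ = b.out * n * (b.out : G)⁻¹ := congrArg Subtype.val heq
    set c : G := (b.out : G)⁻¹ * a.out with hc
    let M1 : Subgroup G := M.map (MulAut.conj c).toMonoidHom
    have hM1 : IsCoatom M1 := (OrderIso.isCoatom_iff (MulEquiv.mapSubgroup (MulAut.conj c)) M).2 hM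
    have h1 : c * m * c⁻¹ = n := by
      rw [hc]
      calc (b.out : G)⁻¹ * a.out * m * ((b.out : G)⁻¹ * a.out)⁻¹
          = (b.out : G)⁻¹ * ((a.out : G) * m * (a.out : G)⁻¹) * b.out := by group
        _ = (b.out : G)⁻¹ * (b.out * n * (b.out : G)⁻¹) * b.out := by rw [heq']
        _ = n := by group
    have hM1' : M1 = M' := by
      by_contra hne'
      have h2 := hinf M1 M' hM1 hM' hne'
      have h3 : (n : G) ∈ M1 ⊓ M' := ⟨⟨m, m.2, by simpa using h1⟩, n.2⟩
      rw [h2, Subgroup.mem_bot] at h3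
      exact hn (Subtype.ext h3)
    apply hg
    rw [← hM1'] at hgM''
    obtain ⟨y, hy, hyg⟩ := hgM''
    have hyg' : c * y * c⁻¹ = g := by simpa using hyg
    apply mem_range_conjMap M g c
    rw [← hyg']
    have : c⁻¹ * (c * y * c⁻¹) * c = y := by group
    rw [this]; exact hy
  have hcard := Nat.card_le_card_of_injective _ (hinj.sumElim hinj' hdisj)
  rw [Nat.card_sum, card_dom, card_dom, card_ne_one] at hcard
  have h2 := hhalf M hM
  have h3 := hhalf M' hM'
  have h4 : 0 < Nat.card G := Nat.card_pos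
  omega

theorem isSolvable_aux (n : ℕ) : ∀ (G : Type u) [Group G] [Finite G], Nat.card G = n →
    (∀ H : Subgroup G, H ≠ ⊤ → Group.IsNilpotent H) → Group.IsSolvable G := by
  induction n using Nat.strong_induction_on with
  | _ n ih =>
  intro G _ _ hn h
  rcases subsingleton_or_nontrivial G with hG | hG
  · infer_instance
  by_cases hs : ∃ N : Subgroup G, N.Normal ∧ N ≠ ⊥ ∧ N ≠ ⊤
  · obtain ⟨N, hN, hN0, hN1⟩ := hs
    rw [Group.isSolvable_iff_subgroup_quotient N]
    refine ⟨?_, ?_⟩
    · haveI := h N hN1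
      infer_instance
    · refine ih (Nat.card (G ⧸ N)) ?_ (G ⧸ N) rfl ?_
      · have h1 := Subgroup.card_eq_card_quotient_mul_card_subgroup N
        have h2 : 1 < Nat.card N := (Subgroup.one_lt_card_iff_ne_bot N).2 hN0
        have h3 : 0 < Nat.card (G ⧸ N) := Nat.card_pos
        rw [← hn, h1]
        nlinarith
      · intro H hH
        have h4 : H.comap (QuotientGroup.mk' N) ≠ ⊤ := by
          intro h5
          apply hH
          rw [← Subgroup.map_comap_eq_self_of_surjective (QuotientGroup.mk'_surjective N) H, h5,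
            ← MonoidHom.range_eq_map, MonoidHom.range_eq_top]
          exact QuotientGroup.mk'_surjective N
        haveI := h _ h4
        refine Group.nilpotent_of_surjective ((QuotientGroup.mk' N).subgroupComap H) ?_
        exact MonoidHom.subgroupComap_surjective_of_surjective _ _ (QuotientGroup.mk'_surjective N)
  · haveI : IsSimpleGroup G := by
      constructor
      intro H hH
      by_contra hcon
      push Not at hcon
      exact hs ⟨H, hH, hcon.1, hcon.2⟩
    exact isSolvable_of_isSimpleGroup h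

/-- **Schmidt's theorem**: a finite group all of whose proper subgroups are nilpotent is solvable. -/
theorem isSolvable_of_forall_proper_isNilpotent {G : Type u} [Group G] [Finite G]
    (h : ∀ H : Subgroup G, H ≠ ⊤ → Group.IsNilpotent H) : Group.IsSolvable G :=
  isSolvable_aux _ G rfl h

/-- A finite nilpotent group has a normal `q`-complement. -/
theorem exists_normal_complement_of_isNilpotent {N : Type u} [Group N] [Finite N]
    (hN : Group.IsNilpotent N) (q : ℕ) [hq : Fact q.Prime] :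
    ∃ L : Subgroup N, L.Normal ∧ ¬ q ∣ Nat.card L ∧ ∃ n : ℕ, L.index = q ^ n := by
  by_cases hd : q ∣ Nat.card N
  · have e : (∀ p : (Nat.card N).primeFactors, ∀ P : Sylow p N, (↑P : Subgroup N)) ≃* N :=
      ((Group.isNilpotent_of_finite_tfae (G := N)).out 0 4 rfl rfl |>.1 hN).some
    have hqm : q ∈ (Nat.card N).primeFactors := by
      rw [Nat.mem_primeFactors]
      exact ⟨hq.out, hd, Nat.card_pos.ne'⟩
    obtain ⟨Q⟩ : Nonempty (Sylow ((⟨q, hqm⟩ : (Nat.card N).primeFactors) : ℕ) N) := inferInstance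
    let φ : N →* (Q : Subgroup N) :=
      ((Pi.evalMonoidHom _ Q).comp (Pi.evalMonoidHom
        (fun p : (Nat.card N).primeFactors => ∀ P : Sylow p N, (↑P : Subgroup N)) ⟨q, hqm⟩)).comp
        e.symm.toMonoidHom
    have hφ : Function.Surjective φ := by
      classical
      intro y
      refine ⟨e (Pi.mulSingle (M := fun p : (Nat.card N).primeFactors => ∀ P : Sylow p N, (↑P : Subgroup N)) ⟨q, hqm⟩
        (Pi.mulSingle (M := fun P : Sylow ((⟨q, hqm⟩ : (Nat.card N).primeFactors) : ℕ) N => (↑P : Subgroup N)) Q y)), ?_⟩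
      simp [φ]
    have hindex : φ.ker.index = Nat.card (Q : Subgroup N) := by
      rw [Subgroup.index_ker, MonoidHom.range_eq_top.2 hφ]
      exact Subgroup.card_top
    haveI : Fact (Nat.Prime ((⟨q, hqm⟩ : (Nat.card N).primeFactors) : ℕ)) := hq
    refine ⟨φ.ker, inferInstance, ?_, ?_⟩
    · have h1 := Subgroup.card_mul_index φ.ker
      have h2 := Subgroup.card_mul_index (Q : Subgroup N)
      rw [hindex] at h1
      have h3 : Nat.card φ.ker = (Q : Subgroup N).index := by
        have h4 : 0 < Nat.card (Q : Subgroup N) := Nat.card_pos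
        apply Nat.eq_of_mul_eq_mul_left h4
        rw [h2, mul_comm, h1]
      rw [h3]
      exact Q.not_dvd_index
    · rw [hindex]
      exact (IsPGroup.iff_card.1 Q.isPGroup')
  · refine ⟨⊤, inferInstance, ?_, 0, ?_⟩
    · rw [Subgroup.card_top]; exact hd
    · simp

/-- The elements of a normal `q`-complement are the `q'`-elements. -/
theorem mem_normal_complement_iff {N : Type u} [Group N] [Finite N] (q : ℕ) [hq : Fact q.Prime]
    (L : Subgroup N) [L.Normal] (h1 : ¬ q ∣ Nat.card L) (h2 : ∃ n : ℕ, L.index = q ^ n) (x : N) :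
    x ∈ L ↔ ¬ q ∣ orderOf x := by
  constructor
  · intro hx hdvd
    apply h1
    have h3 : orderOf (⟨x, hx⟩ : L) ∣ Nat.card L := orderOf_dvd_natCard _
    rw [Subgroup.orderOf_mk] at h3
    exact hdvd.trans h3
  · intro hx
    obtain ⟨n, hn⟩ := h2
    have h3 : orderOf (x : N ⧸ L) ∣ q ^ n := by
      rw [← hn]; exact orderOf_dvd_natCard _
    have h4 : orderOf (x : N ⧸ L) ∣ orderOf x := orderOf_map_dvd (QuotientGroup.mk' L) x
    have h5 : Nat.Coprime (orderOf x) (q ^ n) :=
      Nat.Coprime.pow_right n (((Nat.Prime.coprime_iff_not_dvd hq.out).2 hx).symm)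
    have h6 : orderOf (x : N ⧸ L) = 1 := Nat.eq_one_of_dvd_coprimes h5 h4 h3
    rw [orderOf_eq_one_iff] at h6
    exact (QuotientGroup.eq_one_iff x).1 h6

theorem exists_normal_complement_of_forall_proper_isNilpotent {K : Type u} [Group K] [Finite K] [Nontrivial K]
    (h : ∀ H : Subgroup K, H ≠ ⊤ → Group.IsNilpotent H) :
    ∃ q : ℕ, q.Prime ∧ q ∣ Nat.card K ∧ ∃ L : Subgroup K, L.Normal ∧ ¬ q ∣ Nat.card L ∧
      ∃ n : ℕ, L.index = q ^ n := by
  haveI := isSolvable_of_forall_proper_isNilpotent h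
  have hlt := Group.IsSolvable.commutator_lt_top_of_nontrivial K
  obtain ⟨M, hM, hKM⟩ := exists_coatom_ge _ hlt.ne
  haveI hMn : M.Normal := Subgroup.Normal.of_commutator_le K hKM
  haveI : IsMulCommutative (K ⧸ M) := by
    exact Subgroup.Normal.quotient_commutative_iff_commutator_le.2 hKM
  haveI : Nontrivial (K ⧸ M) := QuotientGroup.nontrivial_iff.2 hM.1
  haveI : IsSimpleGroup (K ⧸ M) := by
    constructor
    intro H hH
    have h1 : M ≤ H.comap (QuotientGroup.mk' M) := by
      have h2 : (⊥ : Subgroup (K ⧸ M)).comap (QuotientGroup.mk' M) ≤ H.comap (QuotientGroup.mk' M) :=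
        Subgroup.comap_mono bot_le
      have h3 : (⊥ : Subgroup (K ⧸ M)).comap (QuotientGroup.mk' M) = M := QuotientGroup.ker_mk' M
      rwa [h3] at h2
    have hsurj := QuotientGroup.mk'_surjective M
    rcases hM.le_iff.1 h1 with h2 | h2
    · right
      rw [← Subgroup.map_comap_eq_self_of_surjective hsurj H, h2, ← MonoidHom.range_eq_map,
        MonoidHom.range_eq_top.2 hsurj]
    · left
      rw [← Subgroup.map_comap_eq_self_of_surjective hsurj H, h2, QuotientGroup.map_mk'_self]
  have hprime : (Nat.card (K ⧸ M)).Prime := Group.is_simple_iff_prime_card.1 inferInstance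
  set q := Nat.card (K ⧸ M) with hqdef
  haveI : Fact q.Prime := ⟨hprime⟩
  obtain ⟨L', hL'n, hL'1, n, hn⟩ := exists_normal_complement_of_isNilpotent (h M hM.1) q
  refine ⟨q, hprime, Subgroup.card_quotient_dvd_card M, L'.map M.subtype, ?_, ?_, n + 1, ?_⟩
  · constructor
    rintro x ⟨m, hm, rfl⟩ g
    have hgm : g * m * g⁻¹ ∈ M := hMn.conj_mem _ m.2 g
    refine ⟨⟨_, hgm⟩, ?_, rfl⟩
    have hm' := (mem_normal_complement_iff q L' hL'1 ⟨n, hn⟩ m).1 hm
    refine (mem_normal_complement_iff q L' hL'1 ⟨n, hn⟩ _).2 ?_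
    have : orderOf (⟨g * m * g⁻¹, hgm⟩ : M) = orderOf m := by
      rw [Subgroup.orderOf_mk, ← Subgroup.orderOf_coe m]
      exact (MulAut.conj g).orderOf_eq m
    rw [this]; exact hm'
  · rw [Subgroup.card_map_of_injective M.subtype_injective]
    exact hL'1
  · rw [pow_succ, ← hn, Subgroup.index_map, hqdef]
    simp [Subgroup.index, mul_comm]

end Cfsg.Agent.SolvableStructure.Schmidt
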