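import Mathlib
import Cfsg.Prelude.Def_SolvableStructure
set_option linter.all false

/-!
Basic theory of supersolvable groups (`Cfsg.IsSupersolvable`).

* `Step A B` : `A`, `B` normal and `B = A ⊔ zpowers g` for some `g`;
* `isSupersolvable_iff_reflTransGen` : `IsSupersolvable G ↔ ReflTransGen Step ⊥ ⊤`;
* closure under subgroups, quotients, isomorphisms, products, cyclic-by-supersolvable;
* normal subgroup of prime order, induction principle;
* finite nilpotent groups are supersolvable; supersolvable groups are solvable, and their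
  derived subgroup is nilpotent.
-/

set_option autoImplicit false

open Cfsg Subgroup
open scoped commutatorElement

namespace Cfsg.Agent.SolvableStructure.Supersolvable

variable {G : Type*} [Group G] {K : Type*} [Group K]

/-- One step of a supersolvable chain. -/
def Step (A B : Subgroup G) : Prop :=
  A.Normal ∧ B.Normal ∧ ∃ g : G, B = A ⊔ Subgroup.zpowers g

theorem step_def (A B : Subgroup G) :
    Step A B ↔ A.Normal ∧ B.Normal ∧ ∃ g : G, B = A ⊔ Subgroup.zpowers g := Iff.rfl

theorem Step.le {A B : Subgroup G} (h : Step A B) : A ≤ B := by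
  obtain ⟨_, _, g, rfl⟩ := h
  exact le_sup_left

theorem chain_le {A B : Subgroup G} (h : Relation.ReflTransGen Step A B) : A ≤ B := by
  induction h with
  | refl => exact le_rfl
  | tail _ h ih => exact ih.trans h.le

/-- Key reformulation of a step: the factor is cyclic. -/
theorem exists_eq_sup_zpowers_iff (A B : Subgroup G) [A.Normal] :
    (∃ g : G, B = A ⊔ Subgroup.zpowers g) ↔ A ≤ B ∧ IsCyclic (B.map (QuotientGroup.mk' A)) := by
  constructor
  · rintro ⟨g, rfl⟩
    refine ⟨le_sup_left, ?_⟩
    have : (A ⊔ Subgroup.zpowers g).map (QuotientGroup.mk' A) =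
        Subgroup.zpowers (QuotientGroup.mk' A g) := by
      rw [Subgroup.map_sup, QuotientGroup.map_mk'_self, bot_sup_eq, MonoidHom.map_zpowers]
    rw [this]
    infer_instance
  · rintro ⟨hAB, hc⟩
    obtain ⟨⟨x, hx⟩, hgen⟩ := hc.exists_generator
    obtain ⟨b, hb, rfl⟩ := Subgroup.mem_map.1 hx
    refine ⟨b, le_antisymm ?_ (sup_le hAB (by simpa [Subgroup.zpowers_le] using hb))⟩
    intro y hy
    have h1 := hgen ⟨QuotientGroup.mk' A y, Subgroup.mem_map_of_mem _ hy⟩
    obtain ⟨k, hk⟩ := Subgroup.mem_zpowers_iff.1 h1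
    have hk' : (QuotientGroup.mk' A b) ^ k = QuotientGroup.mk' A y := by
      simpa using congrArg Subtype.val hk
    rw [← map_zpow] at hk'
    have h2 : (b ^ k)⁻¹ * y ∈ A := by
      rw [← QuotientGroup.ker_mk' A, MonoidHom.mem_ker, map_mul, map_inv, hk', inv_mul_cancel]
    have h3 : y = ((b ^ k) * ((b ^ k)⁻¹ * y)) := by group
    rw [h3]
    exact mul_mem (Subgroup.mem_sup_right (Subgroup.zpow_mem_zpowers _ _))
      (Subgroup.mem_sup_left h2)

theorem step_iff (A B : Subgroup G) [hA : A.Normal] :
    Step A B ↔ B.Normal ∧ A ≤ B ∧ IsCyclic (B.map (QuotientGroup.mk' A)) := by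
  rw [step_def, exists_eq_sup_zpowers_iff]
  tauto

/-- Steps can be pulled back along any homomorphism. -/
theorem Step.comap (f : K →* G) {A B : Subgroup G} (h : Step A B) :
    Step (A.comap f) (B.comap f) := by
  have hA := h.1
  have hB := h.2.1
  obtain ⟨_, hAB, hc⟩ := (step_iff A B).1 h
  have : (A.comap f).Normal := hA.comap f
  rw [step_iff]
  refine ⟨hB.comap f, Subgroup.comap_mono hAB, ?_⟩
  let φ : K ⧸ (A.comap f) →* G ⧸ A := QuotientGroup.map (A.comap f) A f le_rfl
  have hφ : Function.Injective φ := by
    rw [← MonoidHom.ker_eq_bot_iff, eq_bot_iff]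
    intro x hx
    obtain ⟨k, rfl⟩ := QuotientGroup.mk'_surjective _ x
    rw [MonoidHom.mem_ker] at hx
    have : (QuotientGroup.mk' A (f k)) = 1 := hx
    rw [Subgroup.mem_bot, ← MonoidHom.mem_ker, QuotientGroup.ker_mk', Subgroup.mem_comap]
    rwa [← MonoidHom.mem_ker, QuotientGroup.ker_mk'] at this
  let ψ : (B.comap f).map (QuotientGroup.mk' (A.comap f)) →* B.map (QuotientGroup.mk' A) :=
    (φ.comp (Subgroup.subtype _)).codRestrict _ (by
      rintro ⟨x, hx⟩
      obtain ⟨k, hk, rfl⟩ := Subgroup.mem_map.1 hx
      exact Subgroup.mem_map.2 ⟨f k, hk, rfl⟩)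
  refine isCyclic_of_injective ψ ?_
  intro x y hxy
  apply Subtype.ext
  apply hφ
  exact congrArg Subtype.val hxy

/-- Steps can be pushed forward along surjective homomorphisms. -/
theorem Step.map (f : G →* K) (hf : Function.Surjective f) {A B : Subgroup G} (h : Step A B) :
    Step (A.map f) (B.map f) := by
  obtain ⟨hA, hB, g, rfl⟩ := h
  exact ⟨hA.map f hf, hB.map f hf, f g, by rw [Subgroup.map_sup, MonoidHom.map_zpowers]⟩

theorem chain_lift {F : Subgroup G → Subgroup K} (hF : ∀ A B, Step A B → Step (F A) (F B))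
    {A B : Subgroup G} (h : Relation.ReflTransGen Step A B) :
    Relation.ReflTransGen Step (F A) (F B) := by
  induction h with
  | refl => exact Relation.ReflTransGen.refl
  | tail _ h ih => exact ih.tail (hF _ _ h)

theorem chain_comap (f : K →* G) {A B : Subgroup G} (h : Relation.ReflTransGen Step A B) :
    Relation.ReflTransGen Step (A.comap f) (B.comap f) :=
  chain_lift (F := fun X : Subgroup G => X.comap f) (fun _ _ h => Step.comap f h) h

theorem chain_map (f : G →* K) (hf : Function.Surjective f) {A B : Subgroup G}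
    (h : Relation.ReflTransGen Step A B) :
    Relation.ReflTransGen Step (A.map f) (B.map f) :=
  chain_lift (F := fun X : Subgroup G => X.map f) (fun _ _ h => Step.map f hf h) h

/-- Chain characterisation of supersolvability. -/
theorem isSupersolvable_iff_reflTransGen :
    IsSupersolvable G ↔ Relation.ReflTransGen Step (⊥ : Subgroup G) ⊤ := by
  constructor
  · rintro ⟨n, H, h0, hn, hN, hS⟩
    have key : ∀ i : Fin (n + 1), Relation.ReflTransGen Step (⊥ : Subgroup G) (H i) := by
      intro i
      induction i using Fin.induction with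
      | zero => rw [h0]
      | succ i ih => exact ih.tail ⟨hN _, hN _, hS i⟩
    rw [← hn]
    exact key _
  · intro h
    suffices key : ∀ B : Subgroup G, Relation.ReflTransGen Step (⊥ : Subgroup G) B →
        ∃ (n : ℕ) (H : Fin (n + 1) → Subgroup G), H 0 = ⊥ ∧ H (Fin.last n) = B ∧
          (∀ i, (H i).Normal) ∧
          ∀ i : Fin n, ∃ g : G, H i.succ = H i.castSucc ⊔ Subgroup.zpowers g from key _ h
    intro B hB
    induction hB with
    | refl =>
      exact ⟨0, fun _ => ⊥, rfl, rfl, fun _ => inferInstance, fun i => i.elim0⟩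
    | @tail B C _ hBC ih =>
      obtain ⟨n, H, h0, hn, hN, hS⟩ := ih
      refine ⟨n + 1, Fin.snoc (α := fun _ => Subgroup G) H C, ?_, ?_, ?_, ?_⟩
      · have : (0 : Fin (n + 2)) = (0 : Fin (n + 1)).castSucc := rfl
        rw [this, Fin.snoc_castSucc, h0]
      · rw [Fin.snoc_last]
      · intro i
        induction i using Fin.lastCases with
        | last => rw [Fin.snoc_last]; exact hBC.2.1
        | cast i => rw [Fin.snoc_castSucc]; exact hN i
      · intro i
        induction i using Fin.lastCases with
        | last =>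
          rw [Fin.succ_last, Fin.snoc_last, Fin.snoc_castSucc, hn]
          exact hBC.2.2
        | cast i =>
          rw [Fin.succ_castSucc, Fin.snoc_castSucc, Fin.snoc_castSucc]
          exact hS i

theorem isSupersolvable_of_injective (f : K →* G) (hf : Function.Injective f)
    (hG : IsSupersolvable G) : IsSupersolvable K := by
  rw [isSupersolvable_iff_reflTransGen] at hG ⊢
  have := chain_comap f hG
  rwa [MonoidHom.comap_bot, (MonoidHom.ker_eq_bot_iff f).2 hf, Subgroup.comap_top] at this

theorem isSupersolvable_of_surjective (f : G →* K) (hf : Function.Surjective f)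
    (hG : IsSupersolvable G) : IsSupersolvable K := by
  rw [isSupersolvable_iff_reflTransGen] at hG ⊢
  have := chain_map f hf hG
  rwa [Subgroup.map_bot, Subgroup.map_top_of_surjective f hf] at this

theorem isSupersolvable_congr (e : G ≃* K) : IsSupersolvable G ↔ IsSupersolvable K :=
  ⟨isSupersolvable_of_surjective e.toMonoidHom e.surjective,
    isSupersolvable_of_surjective e.symm.toMonoidHom e.symm.surjective⟩

theorem isSupersolvable_subgroup (hG : IsSupersolvable G) (H : Subgroup G) :
    IsSupersolvable H :=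
  isSupersolvable_of_injective H.subtype H.subtype_injective hG

theorem isSupersolvable_quotient (hG : IsSupersolvable G) (N : Subgroup G) [N.Normal] :
    IsSupersolvable (G ⧸ N) :=
  isSupersolvable_of_surjective (QuotientGroup.mk' N) (QuotientGroup.mk'_surjective N) hG

theorem isSupersolvable_of_subsingleton [Subsingleton G] : IsSupersolvable G := by
  rw [isSupersolvable_iff_reflTransGen]
  have : (⊥ : Subgroup G) = ⊤ := Subsingleton.elim _ _
  rw [this]

/-- General extension principle. -/
theorem isSupersolvable_of_ker (f : G →* K) (hK : IsSupersolvable K)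
    (h : Relation.ReflTransGen Step (⊥ : Subgroup G) f.ker) : IsSupersolvable G := by
  rw [isSupersolvable_iff_reflTransGen] at hK ⊢
  refine h.trans ?_
  have := chain_comap f hK
  rwa [MonoidHom.comap_bot, Subgroup.comap_top] at this

theorem step_bot_of_isCyclic (N : Subgroup G) [hN : N.Normal] [hc : IsCyclic N] :
    Step (⊥ : Subgroup G) N := by
  refine ⟨inferInstance, hN, ?_⟩
  obtain ⟨g, hg⟩ := (Subgroup.isCyclic_iff_exists_zpowers_eq_top N).1 hc
  exact ⟨g, by rw [hg, bot_sup_eq]⟩

/-- Cyclic-by-supersolvable is supersolvable. -/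
theorem isSupersolvable_of_isCyclic_normal (N : Subgroup G) [N.Normal] [IsCyclic N]
    (h : IsSupersolvable (G ⧸ N)) : IsSupersolvable G := by
  refine isSupersolvable_of_ker (QuotientGroup.mk' N) h ?_
  rw [QuotientGroup.ker_mk']
  exact Relation.ReflTransGen.single (step_bot_of_isCyclic N)

theorem isSupersolvable_prod (hG : IsSupersolvable G) (hK : IsSupersolvable K) :
    IsSupersolvable (G × K) := by
  refine isSupersolvable_of_ker (MonoidHom.snd G K) hK ?_
  rw [isSupersolvable_iff_reflTransGen] at hG
  have h : Relation.ReflTransGen Step ((⊥ : Subgroup G).prod (⊥ : Subgroup K))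
      ((⊤ : Subgroup G).prod (⊥ : Subgroup K)) := by
    refine chain_lift (F := fun X : Subgroup G => X.prod (⊥ : Subgroup K))
      (fun A B hAB => ?_) hG
    obtain ⟨hA, hB, g, rfl⟩ := hAB
    refine ⟨inferInstance, inferInstance, (g, 1), ?_⟩
    have e : ∀ X : Subgroup G, X.prod (⊥ : Subgroup K) = X.map (MonoidHom.inl G K) := by
      intro X
      ext ⟨a, b⟩
      simp [Subgroup.mem_prod, Subgroup.mem_map, Prod.ext_iff, eq_comm]
    rw [e, e, Subgroup.map_sup, MonoidHom.map_zpowers]
    rfl
  have e2 : (⊤ : Subgroup G).prod (⊥ : Subgroup K) = (MonoidHom.snd G K).ker := by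
    ext ⟨a, b⟩
    simp [Subgroup.mem_prod]
  rwa [Subgroup.bot_prod_bot, e2] at h

/-- Conjugation acts on a normal `zpowers g` by a power map. -/
theorem exists_zpow_conj (g : G) (h : (Subgroup.zpowers g).Normal) (x : G) :
    ∃ k : ℤ, ∀ y ∈ Subgroup.zpowers g, x * y * x⁻¹ = y ^ k := by
  obtain ⟨k, hk⟩ := Subgroup.mem_zpowers_iff.1 (h.conj_mem g (Subgroup.mem_zpowers g) x)
  refine ⟨k, fun y hy => ?_⟩
  obtain ⟨m, rfl⟩ := Subgroup.mem_zpowers_iff.1 hy
  rw [← conj_zpow, ← hk, ← zpow_mul, ← zpow_mul, mul_comm]

/-- Every subgroup of a cyclic normal subgroup is normal. -/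
theorem normal_of_le_zpowers (g : G) (h : (Subgroup.zpowers g).Normal) (N : Subgroup G)
    (hN : N ≤ Subgroup.zpowers g) : N.Normal := by
  refine ⟨fun y hy x => ?_⟩
  obtain ⟨k, hk⟩ := exists_zpow_conj g h x
  rw [hk y (hN hy)]
  exact N.zpow_mem hy k

theorem normal_of_le_isCyclic (C : Subgroup G) [hC : C.Normal] [hc : IsCyclic C] (N : Subgroup G)
    (hN : N ≤ C) : N.Normal := by
  obtain ⟨g, rfl⟩ := (Subgroup.isCyclic_iff_exists_zpowers_eq_top C).1 hc
  exact normal_of_le_zpowers g hC N hN

/-- The derived subgroup centralises every cyclic normal subgroup. -/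
theorem commutator_le_centralizer_zpowers (g : G) (h : (Subgroup.zpowers g).Normal) :
    commutator G ≤ Subgroup.centralizer (Subgroup.zpowers g : Set G) := by
  rw [_root_.commutator_def, Subgroup.commutator_le]
  intro a _ b _
  obtain ⟨k, hk⟩ := exists_zpow_conj g h a
  obtain ⟨l, hl⟩ := exists_zpow_conj g h b
  rw [Subgroup.mem_centralizer_iff]
  intro y hy
  have hab : a * (b * y * b⁻¹) * a⁻¹ = b * (a * y * a⁻¹) * b⁻¹ := by
    rw [hl y hy, hk y hy, hk _ (Subgroup.zpow_mem _ hy _), hl _ (Subgroup.zpow_mem _ hy _),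
      ← zpow_mul, ← zpow_mul, mul_comm]
  have hab' : ∀ y ∈ Subgroup.zpowers g, (a * b) * y * (a * b)⁻¹ = (b * a) * y * (b * a)⁻¹ := by
    intro y hy
    have hab : a * (b * y * b⁻¹) * a⁻¹ = b * (a * y * a⁻¹) * b⁻¹ := by
      rw [hl y hy, hk y hy, hk _ (Subgroup.zpow_mem _ hy _), hl _ (Subgroup.zpow_mem _ hy _),
        ← zpow_mul, ← zpow_mul, mul_comm]
    simpa [mul_assoc] using hab
  -- `(b a)⁻¹ y (b a)` lies in the normal subgroup
  have hz : (b * a)⁻¹ * y * (b * a) ∈ Subgroup.zpowers g := by
    simpa using h.conj_mem y hy (b * a)⁻¹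
  have h2 := hab' _ hz
  have h3 : (a * b) * ((b * a)⁻¹ * y * (b * a)) * (a * b)⁻¹ = y := by
    rw [h2]; group
  rw [commutatorElement_def]
  calc y * (a * b * a⁻¹ * b⁻¹)
      = ((a * b) * ((b * a)⁻¹ * y * (b * a)) * (a * b)⁻¹) * (a * b * a⁻¹ * b⁻¹) := by rw [h3]
    _ = a * b * a⁻¹ * b⁻¹ * y := by group

theorem commutator_le_centralizer_of_isCyclic (C : Subgroup G) [hC : C.Normal]
    [hc : IsCyclic C] : commutator G ≤ Subgroup.centralizer (C : Set G) := by
  obtain ⟨g, rfl⟩ := (Subgroup.isCyclic_iff_exists_zpowers_eq_top C).1 hc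
  exact commutator_le_centralizer_zpowers g hC

/-- The derived subgroup centralises the factors of a supersolvable chain. -/
theorem Step.commutatorElement_mem {A B : Subgroup G} (h : Step A B) {x g : G} (hx : x ∈ B)
    (hg : g ∈ commutator G) : ⁅x, g⁆ ∈ A := by
  have hA := h.1
  obtain ⟨hB, _, hc⟩ := (step_iff A B).1 h
  have hN : (B.map (QuotientGroup.mk' A)).Normal := hB.map _ (QuotientGroup.mk'_surjective A)
  have h1 := commutator_le_centralizer_of_isCyclic (B.map (QuotientGroup.mk' A))
  have h2 : QuotientGroup.mk' A g ∈ commutator (G ⧸ A) := by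
    have : (commutator G).map (QuotientGroup.mk' A) ≤ commutator (G ⧸ A) := by
      rw [_root_.commutator_def, _root_.commutator_def, Subgroup.map_commutator]
      exact Subgroup.commutator_mono le_top le_top
    exact this (Subgroup.mem_map_of_mem _ hg)
  have h3 := Subgroup.mem_centralizer_iff.1 (h1 h2) _ (Subgroup.mem_map_of_mem _ hx)
  rw [← QuotientGroup.ker_mk' A, MonoidHom.mem_ker, map_commutatorElement,
    commutatorElement_eq_one_iff_mul_comm]
  exact h3

/-- The derived subgroup of a supersolvable group is nilpotent. -/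
theorem isNilpotent_commutator (hG : IsSupersolvable G) : Group.IsNilpotent (commutator G) := by
  rw [isSupersolvable_iff_reflTransGen] at hG
  suffices key : ∀ B : Subgroup G, Relation.ReflTransGen Step (⊥ : Subgroup G) B →
      ∃ n : ℕ, B.subgroupOf (commutator G) ≤ Subgroup.upperCentralSeries (commutator G) n by
    obtain ⟨n, hn⟩ := key _ hG
    refine ⟨⟨n, ?_⟩⟩
    rwa [Subgroup.top_subgroupOf, top_le_iff] at hn
  intro B hB
  induction hB with
  | refl => exact ⟨0, by simp⟩
  | @tail B C _ hBC ih =>
    obtain ⟨n, hn⟩ := ih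
    refine ⟨n + 1, ?_⟩
    intro x hx
    rw [Subgroup.mem_upperCentralSeries_succ_iff]
    intro y
    apply hn
    rw [Subgroup.mem_subgroupOf] at hx ⊢
    exact hBC.commutatorElement_mem hx y.2

/-- Supersolvable groups are solvable. -/
theorem isSolvable_of_isSupersolvable (hG : IsSupersolvable G) : Group.IsSolvable G := by
  have h := isNilpotent_commutator hG
  have h1 : Group.IsSolvable (commutator G) := inferInstance
  have h2 : Group.IsSolvable (G ⧸ commutator G) :=
    inferInstanceAs (Group.IsSolvable (Abelianization G))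
  exact (Group.isSolvable_iff_subgroup_quotient (commutator G)).2 ⟨h1, h2⟩

/-- A nontrivial supersolvable group has a nontrivial cyclic normal subgroup. -/
theorem exists_normal_zpowers [Nontrivial G] (hG : IsSupersolvable G) :
    ∃ g : G, g ≠ 1 ∧ (Subgroup.zpowers g).Normal := by
  rw [isSupersolvable_iff_reflTransGen] at hG
  suffices key : ∀ B : Subgroup G, Relation.ReflTransGen Step (⊥ : Subgroup G) B →
      B ≠ ⊥ → ∃ g : G, g ≠ 1 ∧ (Subgroup.zpowers g).Normal by
    exact key _ hG (by exact top_ne_bot)
  intro B hB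
  induction hB with
  | refl => intro h; exact absurd rfl h
  | @tail B C _ hBC ih =>
    intro hC
    by_cases hB : B = ⊥
    · subst hB
      obtain ⟨_, hN, g, rfl⟩ := hBC
      rw [bot_sup_eq] at hN hC
      exact ⟨g, by simpa [Subgroup.zpowers_eq_bot] using hC, hN⟩
    · exact ih hB

/-- A nontrivial finite supersolvable group has a normal subgroup of prime order. -/
theorem exists_normal_prime_card [Finite G] [Nontrivial G] (hG : IsSupersolvable G) :
    ∃ N : Subgroup G, N.Normal ∧ (Nat.card N).Prime := by
  obtain ⟨g, hg, hN⟩ := exists_normal_zpowers hG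
  have h1 : orderOf g ≠ 1 := by simpa [orderOf_eq_one_iff] using hg
  obtain ⟨p, hp, hpg⟩ := Nat.exists_prime_and_dvd h1
  obtain ⟨m, hm⟩ := hpg
  have hm0 : m ≠ 0 := by
    rintro rfl
    have := orderOf_pos g
    omega
  refine ⟨Subgroup.zpowers (g ^ m), normal_of_le_zpowers g hN _ ?_, ?_⟩
  · rw [Subgroup.zpowers_le]
    exact Subgroup.pow_mem _ (Subgroup.mem_zpowers g) m
  · rw [Nat.card_zpowers, orderOf_pow_of_dvd hm0 ⟨p, by rw [hm, mul_comm]⟩, hm,
      Nat.mul_div_cancel _ (Nat.pos_of_ne_zero hm0)]
    exact hp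

/-- Induction principle for finite supersolvable groups. -/
theorem isSupersolvable_induction {P : ∀ (G : Type*) [Group G], Prop}
    (base : ∀ (G : Type _) [Group G] [Subsingleton G], P G)
    (step : ∀ (G : Type _) [Group G] [Finite G] (N : Subgroup G) [N.Normal],
      IsSupersolvable G → (Nat.card N).Prime → IsSupersolvable (G ⧸ N) → P (G ⧸ N) → P G) :
    ∀ (G : Type _) [Group G] [Finite G], IsSupersolvable G → P G := by
  intro G _ _ hG
  induction h : Nat.card G using Nat.strong_induction_on generalizing G with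
  | _ n ih =>
    subst h
    cases subsingleton_or_nontrivial G with
    | inl h => exact base G
    | inr h =>
      obtain ⟨N, hN, hp⟩ := exists_normal_prime_card hG
      have hlt : Nat.card (G ⧸ N) < Nat.card G := by
        rw [Subgroup.card_eq_card_quotient_mul_card_subgroup N]
        have := hp.one_lt
        have h0 : 0 < Nat.card (G ⧸ N) := Nat.card_pos
        nlinarith
      have hq := isSupersolvable_quotient hG N
      exact step G N hG hp hq (ih _ hlt (G ⧸ N) hq rfl)

/-- A nontrivial nilpotent group has nontrivial center. -/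
theorem nontrivial_center_of_isNilpotent (G : Type*) [Group G] [h : Group.IsNilpotent G]
    [Nontrivial G] : Nontrivial (Subgroup.center G) := by
  rw [Subgroup.nontrivial_iff_ne_bot]
  intro hc
  obtain ⟨n, hn⟩ := h.nilpotent
  have key : ∀ n, Subgroup.upperCentralSeries G n = ⊥ := by
    intro n
    induction n with
    | zero => simp
    | succ n ih =>
      rw [eq_bot_iff, ← hc]
      intro x hx
      rw [Subgroup.mem_upperCentralSeries_succ_iff, ih] at hx
      rw [Subgroup.mem_center_iff]
      intro y
      exact (commutatorElement_eq_one_iff_mul_comm.1 (Subgroup.mem_bot.1 (hx y))).symm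
  rw [key n] at hn
  exact bot_ne_top hn

/-- Finite nilpotent groups are supersolvable. -/
theorem isSupersolvable_of_isNilpotent (G : Type*) [Group G] [Finite G] [Group.IsNilpotent G] :
    IsSupersolvable G := by
  induction h : Nat.card G using Nat.strong_induction_on generalizing G with
  | _ n ih =>
    subst h
    cases subsingleton_or_nontrivial G with
    | inl h => exact isSupersolvable_of_subsingleton
    | inr h =>
      have hc : Nontrivial (Subgroup.center G) := nontrivial_center_of_isNilpotent G
      obtain ⟨⟨z, hz⟩, hz1⟩ := exists_ne (1 : Subgroup.center G)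
      have hz1' : z ≠ 1 := fun h => hz1 (Subtype.ext h)
      have hN : (Subgroup.zpowers z).Normal := by
        refine ⟨fun y hy x => ?_⟩
        have : y ∈ Subgroup.center G :=
          (Subgroup.zpowers_le.2 hz) hy
        rw [(Subgroup.mem_center_iff.1 this x), mul_inv_cancel_right]
        exact hy
      have hlt : Nat.card (G ⧸ Subgroup.zpowers z) < Nat.card G := by
        rw [Subgroup.card_eq_card_quotient_mul_card_subgroup (Subgroup.zpowers z)]
        have h1 : 1 < Nat.card (Subgroup.zpowers z) := by
          rw [Nat.card_zpowers]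
          have h2 : orderOf z ≠ 1 := by simpa [orderOf_eq_one_iff] using hz1'
          have h3 := orderOf_pos z
          omega
        have h0 : 0 < Nat.card (G ⧸ Subgroup.zpowers z) := Nat.card_pos
        nlinarith
      exact isSupersolvable_of_isCyclic_normal (Subgroup.zpowers z) (ih _ hlt _ rfl)

end Cfsg.Agent.SolvableStructure.Supersolvable
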