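import Mathlib
import Cfsg.Agent.Lib.SolvableMinNormal
set_option linter.all false

set_option autoImplicit false
open Pointwise

namespace Cfsg.Agent.SolvableStructure.KegelNormal

/-- Every nontrivial normal subgroup of a finite group contains a minimal one. -/
theorem exists_minimal_normal_le {G : Type*} [Group G] [Finite G] (N : Subgroup G)
    (hN : N.Normal) (hne : N ≠ ⊥) :
    ∃ M : Subgroup G, M.Normal ∧ M ≤ N ∧ M ≠ ⊥ ∧
      ∀ K : Subgroup G, K.Normal → K ≤ M → K ≠ ⊥ → K = M := by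
  obtain ⟨M, hM⟩ := (Set.toFinite {K : Subgroup G | K.Normal ∧ K ≤ N ∧ K ≠ ⊥}).exists_minimal
    ⟨N, hN, le_rfl, hne⟩
  refine ⟨M, hM.prop.1, hM.prop.2.1, hM.prop.2.2, ?_⟩
  intro K hK hKM hKne
  exact le_antisymm hKM (hM.le_of_le ⟨hK, hKM.trans hM.prop.2.1, hKne⟩ hKM)

/-- If `G = A B` then `|G : B|` divides `|A|`. -/
theorem index_dvd_card_of_factorization {G : Type*} [Group G] [Finite G] (A B : Subgroup G)
    (hAB : ∀ g : G, ∃ a ∈ A, ∃ b ∈ B, g = a * b) : B.index ∣ Nat.card A := by
  have h1 : MulAction.orbit A ((1 : G) : G ⧸ B) = Set.univ := by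
    ext x
    simp only [Set.mem_univ, iff_true]
    induction x using QuotientGroup.induction_on with
    | H g =>
      obtain ⟨a, ha, b, hb, rfl⟩ := hAB g
      refine ⟨⟨a, ha⟩, ?_⟩
      show ((a * 1 : G) : G ⧸ B) = ((a * b : G) : G ⧸ B)
      rw [QuotientGroup.eq]
      simpa using hb
  have h2 := MulAction.index_stabilizer A ((1 : G) : G ⧸ B)
  rw [h1] at h2
  have h3 : (MulAction.stabilizer A ((1 : G) : G ⧸ B)).index = B.index := by
    rw [h2, Set.ncard_univ]; rfl
  rw [← h3]
  exact Subgroup.index_dvd_card _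

/-- A nontrivial normal subgroup contained in a `p`-subgroup `P` meets the centralizer of `P`
nontrivially. -/
theorem centralizer_inf_ne_bot {G : Type*} [Group G] [Finite G] {p : ℕ} [Fact p.Prime]
    (P N : Subgroup G) [hN : N.Normal] (hP : IsPGroup p P) (hNP : N ≤ P) (hne : N ≠ ⊥) :
    Subgroup.centralizer (P : Set G) ⊓ N ≠ ⊥ := by
  let _ : MulAction P N := MulAction.compHom N ((MulAut.conjNormal (H := N)).comp P.subtype)
  have hsmul : ∀ (x : P) (n : N), ((x • n : N) : G) = x * n * (x : G)⁻¹ := by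
    intro x n
    exact MulAut.conjNormal_apply (x : G) n
  have hpN : IsPGroup p N := hP.to_le hNP
  have hntN : Nontrivial N := (Subgroup.nontrivial_iff_ne_bot N).mpr hne
  have hdvd : p ∣ Nat.card N := by
    obtain ⟨n, hn0, hn⟩ := hpN.nontrivial_iff_card.mp hntN
    exact hn.symm ▸ dvd_pow_self _ (ne_of_gt hn0)
  have h1 : (1 : N) ∈ MulAction.fixedPoints P N := by
    intro x
    apply Subtype.ext
    rw [hsmul]; simp
  obtain ⟨b, hb, hb1⟩ := hP.exists_fixed_point_of_prime_dvd_card_of_fixed_point N hdvd h1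
  intro hbot
  apply hb1
  apply Subtype.ext
  have : (b : G) ∈ Subgroup.centralizer (P : Set G) ⊓ N := by
    refine Subgroup.mem_inf.mpr ⟨?_, b.2⟩
    rw [Subgroup.mem_centralizer_iff]
    intro x hx
    have := congrArg (Subtype.val) (hb ⟨x, hx⟩)
    rw [hsmul] at this
    exact mul_inv_eq_iff_eq_mul.mp this
  rw [hbot, Subgroup.mem_bot] at this
  rw [this]; rfl

/-- Passing to the quotient by a normal subgroup. -/
theorem quotient_step {G : Type*} [Group G] (N : Subgroup G) [N.Normal] (A B : Subgroup G)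
    (hA : Group.IsNilpotent A) (hB : Group.IsNilpotent B)
    (hAB : ∀ g : G, ∃ a ∈ A, ∃ b ∈ B, g = a * b)
    (ih : ∀ A' B' : Subgroup (G ⧸ N), Group.IsNilpotent A' → Group.IsNilpotent B' →
      (∀ g, ∃ a ∈ A', ∃ b ∈ B', g = a * b) → (A' ≠ ⊤ ∨ B' ≠ ⊤) →
      ∃ M : Subgroup (G ⧸ N), M.Normal ∧ M ≠ ⊤ ∧ (A' ≤ M ∨ B' ≤ M))
    (h : A ⊔ N ≠ ⊤ ∨ B ⊔ N ≠ ⊤) :
    ∃ M : Subgroup G, M.Normal ∧ M ≠ ⊤ ∧ (A ≤ M ∨ B ≤ M) := by
  have hnil : ∀ H : Subgroup G, Group.IsNilpotent H →
      Group.IsNilpotent (H.map (QuotientGroup.mk' N)) := by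
    intro H hH
    exact Group.nilpotent_of_surjective ((QuotientGroup.mk' N).subgroupMap H)
      (MonoidHom.subgroupMap_surjective _ _)
  have htop : ∀ H : Subgroup G, H ⊔ N ≠ ⊤ → H.map (QuotientGroup.mk' N) ≠ ⊤ := by
    intro H hH htop
    apply hH
    have := Subgroup.comap_map_eq (QuotientGroup.mk' N) H
    rw [htop, Subgroup.comap_top, QuotientGroup.ker_mk'] at this
    exact this.symm
  have hfac : ∀ g : G ⧸ N, ∃ a ∈ A.map (QuotientGroup.mk' N), ∃ b ∈ B.map (QuotientGroup.mk' N),
      g = a * b := by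
    intro g
    obtain ⟨g, rfl⟩ := QuotientGroup.mk'_surjective N g
    obtain ⟨a, ha, b, hb, rfl⟩ := hAB g
    exact ⟨_, Subgroup.mem_map_of_mem _ ha, _, Subgroup.mem_map_of_mem _ hb, map_mul _ _ _⟩
  obtain ⟨M, hM, hMt, hor⟩ := ih (A.map (QuotientGroup.mk' N)) (B.map (QuotientGroup.mk' N))
    (hnil A hA) (hnil B hB) hfac (h.imp (htop A) (htop B))
  refine ⟨M.comap (QuotientGroup.mk' N), hM.comap _, ?_, ?_⟩
  · intro ht
    apply hMt
    have := congrArg (Subgroup.map (QuotientGroup.mk' N)) ht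
    rwa [Subgroup.map_comap_eq_self_of_surjective (QuotientGroup.mk'_surjective N),
      Subgroup.map_top_of_surjective _ (QuotientGroup.mk'_surjective N)] at this
  · rcases hor with h1 | h1
    · exact Or.inl (Subgroup.map_le_iff_le_comap.mp h1)
    · exact Or.inr (Subgroup.map_le_iff_le_comap.mp h1)

/-- An abelian normal subgroup `N` with `G = A N`: `A ∩ N` is normal. -/
theorem inf_normal_of_sup_eq_top {G : Type*} [Group G] (A N : Subgroup G) [hN : N.Normal]
    (hNc : IsMulCommutative N) (hAN : A ⊔ N = ⊤) : (A ⊓ N).Normal := by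
  refine ⟨?_⟩
  intro n hn g
  have hg : g ∈ A ⊔ N := by rw [hAN]; trivial
  rw [Subgroup.mem_sup_of_normal_right] at hg
  obtain ⟨a, ha, m, hm, rfl⟩ := hg
  have h1 : m * n * m⁻¹ = n := by
    have := hNc.is_comm.comm ⟨m, hm⟩ ⟨n, hn.2⟩
    have := congrArg Subtype.val this
    simp only [Subgroup.coe_mul] at this
    rw [this]; group
  have h2 : a * m * n * (a * m)⁻¹ = a * n * a⁻¹ := by
    calc a * m * n * (a * m)⁻¹ = a * (m * n * m⁻¹) * a⁻¹ := by group
      _ = a * n * a⁻¹ := by rw [h1]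
  rw [h2]
  exact ⟨A.mul_mem (A.mul_mem ha hn.1) (A.inv_mem ha), hN.conj_mem _ hn.2 _⟩

theorem main (n : ℕ) : ∀ (G : Type*) [Group G] [Finite G], Group.IsSolvable G → Nat.card G ≤ n →
    ∀ A B : Subgroup G, Group.IsNilpotent A → Group.IsNilpotent B →
    (∀ g : G, ∃ a ∈ A, ∃ b ∈ B, g = a * b) → (A ≠ ⊤ ∨ B ≠ ⊤) →
    ∃ M : Subgroup G, M.Normal ∧ M ≠ ⊤ ∧ (A ≤ M ∨ B ≤ M) := by
  induction n with
  | zero =>
    intro G _ _ _ hG
    have : 0 < Nat.card G := Nat.card_pos
    omega
  | succ n ih =>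
    intro G _ _ hsol hcard A B hA hB hAB hproper
    by_cases hnil : Group.IsNilpotent G
    · have key : ∀ H : Subgroup G, H ≠ ⊤ → ∃ M : Subgroup G, M.Normal ∧ M ≠ ⊤ ∧ H ≤ M := by
        intro H hH
        obtain ⟨M, hM, hHM⟩ := (eq_top_or_exists_le_coatom H).resolve_left hH
        exact ⟨M, Subgroup.NormalizerCondition.normal_of_coatom M Group.normalizerCondition_of_isNilpotent hM,
          hM.1, hHM⟩
      rcases hproper with h | h
      · obtain ⟨M, h1, h2, h3⟩ := key A h
        exact ⟨M, h1, h2, Or.inl h3⟩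
      · obtain ⟨M, h1, h2, h3⟩ := key B h
        exact ⟨M, h1, h2, Or.inr h3⟩
    have hAt : A ≠ ⊤ := by
      rintro rfl
      exact hnil (Group.isNilpotent_top.mp hA)
    have hBt : B ≠ ⊤ := by
      rintro rfl
      exact hnil (Group.isNilpotent_top.mp hB)
    have hnt : Nontrivial G := by
      by_contra hnt
      rw [not_nontrivial_iff_subsingleton] at hnt
      exact hAt (Subsingleton.elim _ _)
    have hquot : ∀ N : Subgroup G, N.Normal → N ≠ ⊥ → Nat.card (G ⧸ N) ≤ n := by
      intro N _ hNne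
      have h1 := Subgroup.card_eq_card_quotient_mul_card_subgroup N
      have h2 : 1 < Nat.card N := by
        rw [Subgroup.one_lt_card_iff_ne_bot]; exact hNne
      have h3 : 0 < Nat.card (G ⧸ N) := Nat.card_pos
      nlinarith
    obtain ⟨p, hp, N₀, hN₀c, hN₀comm, hN₀p, hN₀ne⟩ :=
      Cfsg.Agent.Lib.SolvableMinNormal.exists_characteristic_pgroup (G := G)
    obtain ⟨N, hN, hNN₀, hNne, hNmin⟩ := exists_minimal_normal_le N₀ inferInstance hN₀ne
    have : Fact p.Prime := ⟨hp⟩
    have hNcomm : IsMulCommutative N := by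
      refine ⟨⟨fun x y => ?_⟩⟩
      apply Subtype.ext
      have h1 := hN₀comm.is_comm.comm ⟨x, hNN₀ x.2⟩ ⟨y, hNN₀ y.2⟩
      have h2 := congrArg (Subtype.val) h1
      exact h2
    have hNp : IsPGroup p N := hN₀p.to_le hNN₀
    by_cases hAN : A ⊔ N = ⊤
    swap
    · exact quotient_step N A B hA hB hAB
        (ih (G ⧸ N) inferInstance (hquot N hN hNne)) (Or.inl hAN)
    by_cases hBN : B ⊔ N = ⊤
    swap
    · exact quotient_step N A B hA hB hAB
        (ih (G ⧸ N) inferInstance (hquot N hN hNne)) (Or.inr hBN)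
    have hinf : ∀ H : Subgroup G, H ≠ ⊤ → H ⊔ N = ⊤ → H ⊓ N = ⊥ := by
      intro H hH hHN
      by_contra hne
      have := hNmin (H ⊓ N) (inf_normal_of_sup_eq_top H N hNcomm hHN) inf_le_right hne
      have hle : N ≤ H := by rw [← this]; exact inf_le_left
      exact hH (by rw [← hHN, sup_eq_left.mpr hle])
    have hcompl : ∀ H : Subgroup G, H ≠ ⊤ → H ⊔ N = ⊤ → N.IsComplement' H := by
      intro H hH hHN
      apply Subgroup.isComplement'_of_disjoint_and_mul_eq_univ
      · rw [disjoint_iff, inf_comm]; exact hinf H hH hHN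
      · rw [← Subgroup.normal_mul, sup_comm, hHN]; rfl
    have hcA := hcompl A hAt hAN
    have hcB := hcompl B hBt hBN
    have hcardAB : Nat.card A = Nat.card B := by
      have h1 := hcA.card_mul_card
      have h2 := hcB.card_mul_card
      have h3 : 0 < Nat.card N := Nat.card_pos
      exact Nat.eq_of_mul_eq_mul_left h3 (h1.trans h2.symm)
    have hpN : p ∣ Nat.card N := by
      obtain ⟨n, hn0, hn⟩ := hNp.nontrivial_iff_card.mp ((Subgroup.nontrivial_iff_ne_bot N).mpr hNne)
      exact hn.symm ▸ dvd_pow_self _ (ne_of_gt hn0)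
    have hpA : p ∣ Nat.card A := by
      refine hpN.trans ?_
      rw [← hcB.index_eq_card]
      exact index_dvd_card_of_factorization A B hAB
    -- the Sylow `p`-subgroup of `A`
    obtain ⟨P⟩ : Nonempty (Sylow p A) := inferInstance
    set H : Subgroup G := (P : Subgroup A).map A.subtype with hH
    have hHp : IsPGroup p H := P.2.map _
    have hHne : H ≠ ⊥ := by
      intro h
      rw [hH, Subgroup.map_eq_bot_iff_of_injective _ A.subtype_injective] at h
      exact P.ne_bot_of_dvd_card hpA h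
    have hHA : H ≤ A := Subgroup.map_subtype_le _
    have hAH : A ≤ Subgroup.normalizer (H : Set G) := by
      have : (P : Subgroup A).Normal := inferInstance
      have h1 : ((P : Subgroup A).map A.subtype).subgroupOf A = P := by
        rw [Subgroup.subgroupOf, Subgroup.comap_map_eq_self_of_injective A.subtype_injective]
      rw [← Subgroup.normal_subgroupOf_iff_le_normalizer hHA, hH, h1]
      infer_instance
    have hQp : IsPGroup p (N ⊔ H : Subgroup G) := IsPGroup.to_sup_of_normal_left hNp hHp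
    have hQn : (N ⊔ H).Normal := by
      rw [← Subgroup.normalizer_eq_top_iff, ← top_le_iff, ← hAN]
      apply sup_le
      · intro a ha
        have h1 : a ∈ Subgroup.normalizer (H : Set G) := hAH ha
        have h2 : a ∈ Subgroup.normalizer (N : Set G) := by
          rw [Subgroup.normalizer_eq_top_iff.mpr hN]; trivial
        rw [Subgroup.mem_normalizer_iff_map_conj_eq] at h1 h2 ⊢
        rw [Subgroup.map_sup, h1, h2]
      · exact le_trans le_sup_left Subgroup.le_normalizer
    have hNC : N ≤ Subgroup.centralizer ((N ⊔ H : Subgroup G) : Set G) := by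
      have h1 := centralizer_inf_ne_bot (N ⊔ H) N hQp le_sup_left hNne
      have h2 := hNmin (Subgroup.centralizer ((N ⊔ H : Subgroup G) : Set G) ⊓ N) inferInstance
        inf_le_right h1
      exact inf_eq_right.mp h2
    have hNH : N ≤ Subgroup.normalizer (H : Set G) := by
      refine hNC.trans (le_trans ?_ (Subgroup.centralizer_le_normalizer (H : Set G)))
      exact Subgroup.centralizer_le (SetLike.coe_subset_coe.mpr le_sup_right)
    have hHn : H.Normal := by
      rw [← Subgroup.normalizer_eq_top_iff, ← top_le_iff, ← hAN]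
      exact sup_le hAH hNH
    refine quotient_step H A B hA hB hAB (ih (G ⧸ H) inferInstance (hquot H hHn hHne)) (Or.inl ?_)
    rwa [sup_eq_left.mpr hHA]

end Cfsg.Agent.SolvableStructure.KegelNormal
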