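import Mathlib
set_option linter.all false

set_option autoImplicit false

namespace Cfsg.Agent.SolvableStructure.ConverseLagrange

/-- A finite abelian group has a subgroup of every order dividing its order. -/
theorem comm_exists_subgroup_card {A : Type*} [CommGroup A] [Finite A] (d : ℕ)
    (hd : d ∣ Nat.card A) : ∃ H : Subgroup A, Nat.card H = d := by
  -- strong induction on the order
  suffices key : ∀ (n : ℕ) (A : Type _) [CommGroup A] [Finite A], Nat.card A = n →
      ∀ d : ℕ, d ∣ Nat.card A → ∃ H : Subgroup A, Nat.card H = d from
    key _ A rfl d hd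
  intro n
  induction n using Nat.strong_induction_on with
  | _ n ih =>
    intro A _ _ hn d hd
    by_cases h1 : d = 1
    · subst h1
      exact ⟨⊥, Subgroup.card_bot⟩
    · obtain ⟨p, hp, hpd⟩ := Nat.exists_prime_and_dvd h1
      have : Fact p.Prime := ⟨hp⟩
      obtain ⟨x, hx⟩ := exists_prime_orderOf_dvd_card' (G := A) p (hpd.trans hd)
      let P := Subgroup.zpowers x
      have hP : Nat.card P = p := by rw [Nat.card_zpowers, hx]
      have hcard : Nat.card A = Nat.card (A ⧸ P) * p := by
        rw [← hP]; exact Subgroup.card_eq_card_quotient_mul_card_subgroup P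
      have hpos : 0 < Nat.card (A ⧸ P) := Nat.card_pos
      have hlt : Nat.card (A ⧸ P) < n := by
        rw [← hn, hcard]
        exact lt_mul_of_one_lt_right hpos hp.one_lt
      obtain ⟨e, rfl⟩ := hpd
      have hed : e ∣ Nat.card (A ⧸ P) := by
        rw [hcard, mul_comm _ p] at hd
        exact Nat.dvd_of_mul_dvd_mul_left hp.pos hd
      obtain ⟨K, hK⟩ := ih _ hlt (A ⧸ P) rfl e hed
      refine ⟨K.comap (QuotientGroup.mk' P), ?_⟩
      have h2 : (K.comap (QuotientGroup.mk' P)).index = K.index :=
        Subgroup.index_comap_of_surjective K (QuotientGroup.mk'_surjective P)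
      have h3 := Subgroup.card_mul_index (K.comap (QuotientGroup.mk' P))
      have h4 := Subgroup.card_mul_index K
      rw [h2, hcard, ← h4, hK] at h3
      have h5 : 0 < K.index := Nat.pos_of_ne_zero Subgroup.index_ne_zero_of_finite
      have h6 : Nat.card (K.comap (QuotientGroup.mk' P)) * K.index = (p * e) * K.index := by
        rw [h3]; ring
      exact Nat.eq_of_mul_eq_mul_right h5 h6

/-- The arithmetic behind the product construction: if every prime exponent of `a` is one less
than that of `g` then any divisor `d` of `g * a` factors as `m * b` with `m` a unitary divisor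
of `g` and `b` a divisor of `a`. -/
theorem exists_unitary_split (g a d : ℕ) (hg : g ≠ 0) (ha : a ≠ 0) (hd : d ∣ g * a)
    (hexp : ∀ p : ℕ, p.Prime → p ∣ g → a.factorization p + 1 = g.factorization p) :
    ∃ m n b : ℕ, g = m * n ∧ m.Coprime n ∧ d = m * b ∧ b ∣ a := by
  classical
  have hd0 : d ≠ 0 := ne_zero_of_dvd_ne_zero (mul_ne_zero hg ha) hd
  let P : ℕ → Prop := fun p => a.factorization p < d.factorization p
  let fm := g.factorization.filter P
  let fn := g.factorization.filter (fun p => ¬ P p)
  have hfm : ∀ p ∈ fm.support, p.Prime := by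
    intro p hp
    rw [Finsupp.support_filter, Finset.mem_filter] at hp
    exact Nat.prime_of_mem_primeFactors (by simpa using hp.1)
  have hfn : ∀ p ∈ fn.support, p.Prime := by
    intro p hp
    rw [Finsupp.support_filter, Finset.mem_filter] at hp
    exact Nat.prime_of_mem_primeFactors (by simpa using hp.1)
  let m := fm.prod (· ^ ·)
  let n := fn.prod (· ^ ·)
  have hm : m.factorization = fm := Nat.prod_pow_factorization_eq_self hfm
  have hn : n.factorization = fn := Nat.prod_pow_factorization_eq_self hfn
  have hm0 : m ≠ 0 := by
    refine Finset.prod_ne_zero_iff.mpr fun p hp => pow_ne_zero _ (hfm p hp).ne_zero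
  have hn0 : n ≠ 0 := by
    refine Finset.prod_ne_zero_iff.mpr fun p hp => pow_ne_zero _ (hfn p hp).ne_zero
  have hmn : g = m * n := by
    apply Nat.eq_of_factorization_eq hg (mul_ne_zero hm0 hn0)
    intro p
    rw [Nat.factorization_mul hm0 hn0, hm, hn]
    by_cases hp : P p
    · simp [fm, fn]
    · simp [fm, fn]
  have hdle : ∀ p, d.factorization p ≤ g.factorization p + a.factorization p := by
    intro p
    have := (Nat.factorization_le_iff_dvd hd0 (mul_ne_zero hg ha)).mpr hd p
    rwa [Nat.factorization_mul hg ha] at this
  have hmd : m ∣ d := by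
    rw [← Nat.factorization_le_iff_dvd hm0 hd0]
    intro p
    rw [hm]
    by_cases hp : P p
    · simp only [fm, Finsupp.filter_apply_pos _ _ hp]
      by_cases hpp : p.Prime
      · by_cases hpg : p ∣ g
        · have := hexp p hpp hpg
          have hp' : a.factorization p < d.factorization p := hp
          omega
        · rw [Nat.factorization_eq_zero_of_not_dvd hpg]; exact Nat.zero_le _
      · rw [Nat.factorization_eq_zero_of_not_prime _ hpp]; exact Nat.zero_le _
    · simp only [fm, Finsupp.filter_apply_neg _ _ hp]; exact Nat.zero_le _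
  obtain ⟨b, hb⟩ := hmd
  have hb0 : b ≠ 0 := by rintro rfl; exact hd0 (by simpa using hb)
  refine ⟨m, n, b, hmn, ?_, hb, ?_⟩
  · rw [← Nat.disjoint_primeFactors hm0 hn0]
    rw [← Nat.support_factorization, ← Nat.support_factorization, hm, hn]
    rw [Finset.disjoint_left]
    intro p hp hq
    rw [Finsupp.support_filter, Finset.mem_filter] at hp hq
    exact hq.2 hp.2
  · rw [← Nat.factorization_le_iff_dvd hb0 ha]
    intro p
    have h1 : d.factorization p = m.factorization p + b.factorization p := by
      rw [hb, Nat.factorization_mul hm0 hb0]; rfl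
    have h2 := hdle p
    rw [hm] at h1
    by_cases hp : P p
    · simp only [fm, Finsupp.filter_apply_pos _ _ hp] at h1
      omega
    · have hp' : ¬ (a.factorization p < d.factorization p) := hp
      simp only [fm, Finsupp.filter_apply_neg _ _ hp] at h1
      omega

end Cfsg.Agent.SolvableStructure.ConverseLagrange
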