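import Mathlib.GroupTheory.Frattini
import Mathlib.GroupTheory.Complement
set_option linter.all false

/-!
Complements of abelian normal subgroups (Gaschütz): helper lemmas for S0585 and S0586.
-/

set_option autoImplicit false

namespace Cfsg.Agent.SolvableStructure.FrattiniTrivial

open Subgroup

variable {G : Type*} [Group G]

/-- If the Frattini subgroup is trivial, each nontrivial subgroup avoids some maximal subgroup. -/
theorem exists_coatom_not_le (hΦ : frattini G = ⊥) {N : Subgroup G} (hN : N ≠ ⊥) :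
    ∃ M : Subgroup G, IsCoatom M ∧ ¬ N ≤ M := by
  by_contra hcon
  push Not at hcon
  apply hN
  rw [eq_bot_iff, ← hΦ, frattini, Order.radical]
  exact le_iInf₂ fun M hM => hcon M hM

/-- The normalizer of a subgroup of an abelian subgroup `A` contains `A`. -/
theorem le_normalizer_of_le_abelian {A N : Subgroup G} [IsMulCommutative A] (h : N ≤ A) :
    A ≤ normalizer N := by
  intro a ha
  rw [mem_normalizer_iff]
  intro n
  have comm : ∀ x ∈ A, a * x * a⁻¹ = x := by
    intro x hx
    rw [setLike_mul_comm ha hx]; group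
  constructor
  · intro hn
    rw [comm n (h hn)]; exact hn
  · intro hn
    have h1 : a * n * a⁻¹ ∈ A := h hn
    have h2 : n ∈ A := by
      have := A.mul_mem (A.mul_mem (A.inv_mem ha) h1) ha
      simpa [mul_assoc] using this
    rwa [comm n h2] at hn

/-- `A ⊓ H` is normalized by `H` when `A` is normal. -/
theorem le_normalizer_inf {A H : Subgroup G} [A.Normal] : H ≤ normalizer (A ⊓ H : Subgroup G) := by
  intro h hh
  rw [mem_normalizer_iff]
  intro n
  constructor
  · rintro ⟨h1, h2⟩
    exact ⟨Normal.conj_mem ‹_› n h1 h, H.mul_mem (H.mul_mem hh h2) (H.inv_mem hh)⟩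
  · rintro ⟨h1, h2⟩
    refine ⟨?_, ?_⟩
    · have := Normal.conj_mem ‹A.Normal› _ h1 h⁻¹
      simpa [mul_assoc] using this
    · have := H.mul_mem (H.mul_mem (H.inv_mem hh) h2) hh
      simpa [mul_assoc] using this

/-- If `A` is abelian normal and `A H = G`, then `A ⊓ H` is normal. -/
theorem inf_normal_of_sup_eq_top {A H : Subgroup G} [A.Normal] [IsMulCommutative A]
    (h : A ⊔ H = ⊤) : (A ⊓ H).Normal := by
  rw [← normalizer_eq_top_iff, eq_top_iff, ← h]
  exact sup_le (le_normalizer_of_le_abelian inf_le_left) le_normalizer_inf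

/-- **Gaschütz.** If every nontrivial normal subgroup contained in the abelian normal subgroup `A`
avoids some maximal subgroup then `A` has a complement. -/
theorem exists_isComplement' [Finite G] (A : Subgroup G) [A.Normal] [IsMulCommutative A]
    (hΦ : ∀ N : Subgroup G, N.Normal → N ≤ A → N ≠ ⊥ → ∃ M : Subgroup G, IsCoatom M ∧ ¬ N ≤ M) :
    ∃ H : Subgroup G, Subgroup.IsComplement' A H := by
  obtain ⟨H, hH⟩ := (Set.toFinite {H : Subgroup G | A ⊔ H = ⊤}).exists_minimal ⟨⊤, sup_top_eq A⟩
  have hAH : A ⊔ H = ⊤ := hH.1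
  have hnorm : (A ⊓ H).Normal := inf_normal_of_sup_eq_top hAH
  have hbot : A ⊓ H = ⊥ := by
    by_contra hne
    obtain ⟨M, hM, hNM⟩ := hΦ (A ⊓ H) hnorm inf_le_left hne
    have hsup : A ⊓ H ⊔ M = ⊤ := by
      rw [sup_comm]
      exact (hM.2 _ (lt_of_le_of_ne le_sup_left fun he => hNM (he ▸ le_sup_right)))
    have hle : H ≤ A ⊔ (M ⊓ H) := by
      intro h hh
      have hmem : h ∈ A ⊓ H ⊔ M := hsup ▸ mem_top h
      obtain ⟨n, hn, m, hm, rfl⟩ := mem_sup_of_normal_left.mp hmem
      refine mul_mem (mem_sup_left hn.1) (mem_sup_right ⟨hm, ?_⟩)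
      have := H.mul_mem (H.inv_mem hn.2) hh
      simpa [mul_assoc] using this
    have htop : A ⊔ (M ⊓ H) = ⊤ := by
      rw [eq_top_iff, ← hAH]
      exact sup_le le_sup_left hle
    have hle2 : H ≤ M ⊓ H := hH.2 htop inf_le_right
    exact hNM (inf_le_right.trans (hle2.trans inf_le_left))
  refine ⟨H, isComplement'_of_disjoint_and_mul_eq_univ (disjoint_iff.mpr hbot) ?_⟩
  rw [← normal_mul, hAH, coe_top]

/-- In a finite group with trivial Frattini subgroup every abelian normal subgroup has a
complement. -/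
theorem exists_isComplement'_of_frattini_eq_bot [Finite G] (hΦ : frattini G = ⊥) (A : Subgroup G)
    [A.Normal] [IsMulCommutative A] : ∃ H : Subgroup G, Subgroup.IsComplement' A H :=
  exists_isComplement' A fun _ _ _ hN => exists_coatom_not_le hΦ hN

end Cfsg.Agent.SolvableStructure.FrattiniTrivial
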